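import Cfsg.Agent.H714.S8.AdjA_m3
import Cfsg.Agent.H123.Cls.SuzOre
import Cfsg.Agent.H689.EB.RowSuz
import Cfsg.Agent.H447.CTabLam_m3
import Cfsg.Agent.Lib.ListFast
import Cfsg.Agent.Blocks.Induced
import Cfsg.Agent.FastGrp
import Cfsg.Agent.Prune
set_option linter.all false

-- part: H714/S8/SuzFam
section
set_option linter.all false
open scoped Cfsg.Agent.FastGrp

-- part: H714/S8/SuzFam
section
/-!
# The 37 families of elements of `Suz` (helper714)

`fam g` : the number of the class under `Suz : 2` of `g : Suz` (helper123's representatives), the sizes of the families,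
squares and cubes of the families, invariance under automorphisms.
-/

set_option autoImplicit false
set_option maxRecDepth 1000000
set_option exponentiation.threshold 5000

namespace Cfsg.Agent.H714.S8.SuzFam

open Cfsg Cfsg.Spor Cfsg.Agent.H123.Cls Cfsg.Agent.H123.Cls.SuzDat Cfsg.Agent.H300.Cls Cfsg.Agent.Lib.BitNet
open Cfsg.Agent.H763.Ore.SuzModel (A N A_conj card_A card_N N_le_A T_mem_A)
open Cfsg.Agent.OddHalf.Table.SuzRep (ψ ψ_val ψ_injective)
open Cfsg.Agent.H714.S8.Fam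
open Cfsg.Agent.SporadicRecognition.SuzOrder (card_Suz)

/-- the signatures of the representatives -/
def SL : List (List ℕ) := [
  [0, 54, 0, 1782, 0, 54, 54], [0, 1782, 0, 1782, 0, 1782, 1782], [192, 6, 0, 54, 192, 6, 6],
  [324, 0, 324, 0, 0, 54, 0], [324, 0, 324, 0, 0, 1782, 0], [360, 0, 440, 4, 360, 0, 30],
  [360, 18, 360, 18, 0, 1782, 18], [372, 6, 468, 18, 960, 30, 6], [396, 0, 324, 0, 192, 6, 0],
  [396, 0, 396, 0, 396, 0, 0], [396, 0, 476, 4, 396, 0, 0], [400, 2, 192, 6, 400, 2, 2],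
  [400, 2, 400, 2, 400, 2, 42], [400, 2, 400, 2, 400, 2, 162], [400, 2, 400, 2, 400, 2, 1782],
  [408, 6, 360, 18, 480, 42, 6], [416, 1, 416, 1, 416, 1, 1], [416, 1, 416, 1, 476, 4, 1],
  [420, 3, 420, 3, 600, 12, 18], [432, 0, 408, 6, 432, 0, 0], [432, 0, 432, 0, 324, 0, 0],
  [432, 0, 432, 0, 540, 0, 0], [432, 0, 480, 42, 432, 0, 0], [432, 0, 544, 2, 432, 0, 0],
  [436, 2, 468, 18, 544, 2, 2], [440, 4, 600, 12, 440, 4, 54], [468, 0, 324, 0, 960, 30, 0],
  [468, 0, 372, 6, 480, 6, 0], [468, 18, 1620, 162, 0, 54, 18], [476, 4, 476, 4, 476, 4, 4],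
  [480, 6, 960, 30, 480, 6, 6], [480, 42, 0, 1782, 480, 42, 42], [540, 0, 324, 0, 0, 54, 0],
  [544, 2, 0, 54, 544, 2, 2], [600, 12, 600, 12, 600, 12, 1782], [960, 30, 0, 54, 960, 30, 30],
  [1620, 162, 1620, 162, 0, 1782, 162]]

/-- the sizes of the families -/
def SZ : List ℕ := [
  135135, 1, 145945800, 1037836800, 12812800, 22417274880, 138378240, 1556755200, 18681062400, 40758681600,
  16012339200, 7005398400, 22417274880, 29889699840, 1494484992, 6227020800, 68976230400, 42699571200,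
  19926466560, 12454041600, 16605388800, 49816166400, 1556755200, 14010796800, 9340531200, 11208637440,
  6227020800, 18681062400, 129729600, 5337446400, 2335132800, 2779920, 691891200, 291891600, 249080832,
  9729720, 45760]

/-- the squares of the families -/
def P2 : List ℕ := [
  1, 1, 0, 4, 4, 25, 6, 28, 3, 9, 29, 2, 14, 13, 14, 6, 16, 17, 18, 15, 20, 20, 31, 33, 28, 34, 3, 7, 36, 29,
  35, 1, 4, 0, 34, 0, 36]

/-- the cubes of the families -/
def P3 : List ℕ := [
  0, 1, 2, 0, 1, 5, 1, 35, 2, 9, 10, 11, 12, 14, 14, 31, 16, 29, 34, 22, 4, 32, 22, 23, 33, 25, 35, 30, 0,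
  29, 30, 31, 0, 33, 34, 35, 1]

theorem SL_eq : (D.map fun x => x.2.2) = SL := rfl

theorem SL_nodup : SL.Nodup := by decide +kernel

theorem pwc_pow {n : ℕ} (row : ℕ → ℕ) (r : Equiv.Perm (Fin n)) (k : ℕ) (a : Bool × ℕ) :
    pwc row (r ^ k) a = pwc row r (a.1, k * a.2) := by
  unfold pwc
  rw [← pow_mul]

/-- the signature -/
noncomputable def sg (g : Suz) : List ℕ := key.map (pwc row (ψ g))

/-- the family -/
noncomputable def fam (g : Suz) : ℕ := SL.idxOf (sg g)

theorem fam_of_sg {g : Suz} {i : ℕ} (hi : i < 37) (h : sg g = SL.getD i []) : fam g = i := by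
  rw [fam, h, List.getD_eq_getElem _ _ (show i < SL.length from hi)]
  exact SL_nodup.idxOf_getElem i hi

/-- **every element is conjugate by an element of `Suz : 2` to the representative of its family** -/
theorem fam_spec (g : Suz) : ∃ hi : fam g < D.length, ∃ r ∈ N, (∀ p : Fin 1782, (r p : ℕ) = lk 11 (D[fam g]'hi).1 p) ∧
    sg g = SL.getD (fam g) [] ∧ ∃ b ∈ A, ψ g = b * r * b⁻¹ := by
  obtain ⟨x, hx, r, hrN, hr, b, hb, h⟩ := suz_cover (ψ g) ⟨g, rfl⟩
  obtain ⟨i, hi, rfl⟩ := List.getElem_of_mem hx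
  have e1 : sg g = (D[i]'hi).2.2 := by
    rw [← sig_of_chk (by norm_num) hr (D_sg _ hx) (D_len _ hx), sg, h]
    exact List.map_congr_left fun a _ => pwc_conj (H763.Ore.SuzTab.A_le_Aut hb) a
  have e2 : (D[i]'hi).2.2 = SL.getD i [] := by
    rw [List.getD_eq_getElem _ _ (show i < SL.length from hi)]
    have h1 : (D.map fun x => x.2.2)[i]'(by rw [List.length_map]; exact hi) = (D[i]).2.2 := List.getElem_map _
    rw [← h1]
    rfl
  have e3 : fam g = i := fam_of_sg hi (e1.trans e2)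
  subst e3
  exact ⟨hi, r, hrN, hr, e1.trans e2, b, hb, h⟩

theorem fam_lt (g : Suz) : fam g < 37 := (fam_spec g).choose

theorem sg_fam (g : Suz) : sg g = SL.getD (fam g) [] := by
  obtain ⟨-, -, -, -, h, -⟩ := fam_spec g
  exact h

/-- entry `t` of the signature of the family `i` -/
def sE (i t : ℕ) : ℕ := (SL.getD i []).getD t 0

theorem sE_pow (g : Suz) (k : ℕ) : sE (fam (g ^ k)) 0 = pwc row (ψ g) (true, k * 1) ∧
    sE (fam (g ^ k)) 1 = pwc row (ψ g) (false, k * 1) ∧ sE (fam (g ^ k)) 2 = pwc row (ψ g) (true, k * 2) ∧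
    sE (fam (g ^ k)) 3 = pwc row (ψ g) (false, k * 2) ∧ sE (fam (g ^ k)) 4 = pwc row (ψ g) (true, k * 3) ∧
    sE (fam (g ^ k)) 5 = pwc row (ψ g) (false, k * 3) ∧ sE (fam (g ^ k)) 6 = pwc row (ψ g) (false, k * 5) := by
  delta sE
  rw [← sg_fam, sg, map_pow]
  exact ⟨pwc_pow row _ k (true, 1), pwc_pow row _ k (false, 1), pwc_pow row _ k (true, 2), pwc_pow row _ k (false, 2),
    pwc_pow row _ k (true, 3), pwc_pow row _ k (false, 3), pwc_pow row _ k (false, 5)⟩

theorem fx_of {g : Suz} {i P : ℕ} (hi : fam g = i) (hP : (D.getD i (0, 0, [])).1 = P) {e c : ℕ}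
    (h : chkSig 1782 11 row 11 P [(false, e)] [c] = true) : pwc row (ψ g) (false, e) = c := by
  obtain ⟨hi', r, -, hr, -, b, hb, e1⟩ := fam_spec g
  subst hi
  rw [List.getD_eq_getElem _ _ hi'] at hP
  rw [hP] at hr
  rw [e1, pwc_conj (H763.Ore.SuzTab.A_le_Aut hb)]
  exact List.head_eq_of_cons_eq (sig_of_chk (by norm_num) hr h rfl)

set_option synthInstance.maxSize 4096 in
/-- the signatures determine the power maps, up to nine numbers of fixed points -/
theorem pw_chk : ∀ i < 37, ∀ a < 37, sE a 0 = sE i 2 ∧ sE a 1 = sE i 3 → ∀ b < 37, sE b 0 = sE i 4 ∧ sE b 1 = sE i 5 ∧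
    sE a 4 = sE b 2 ∧ sE a 5 = sE b 3 ∧ (i = 9 → sE a 3 = 0) ∧ (i = 12 → sE a 6 = 1782 ∧ sE b 6 = 42) ∧
    (i = 13 → sE a 6 = 162 ∧ sE b 6 = 1782) ∧ (i = 14 → sE a 6 = 1782 ∧ sE b 6 = 1782) ∧ (i = 16 → sE b 5 = 1) ∧
    (i = 20 → sE b 5 = 1782) → a = P2.getD i 0 ∧ b = P3.getD i 0 := by decide +kernel

theorem fam_pw (g : Suz) : fam (g ^ 2) = P2.getD (fam g) 0 ∧ fam (g ^ 3) = P3.getD (fam g) 0 := by
  obtain ⟨-, -, a2, a3, a4, a5, -⟩ := sE_pow g 1
  obtain ⟨b0, b1, -, b3, b4, b5, b6⟩ := sE_pow g 2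
  obtain ⟨c0, c1, c2, c3, -, c5, c6⟩ := sE_pow g 3
  rw [pow_one] at a2 a3 a4 a5
  exact pw_chk _ (fam_lt g) _ (fam_lt _) ⟨b0.trans a2.symm, b1.trans a3.symm⟩ _ (fam_lt _) ⟨c0.trans a4.symm,
    c1.trans a5.symm, b4.trans c2.symm, b5.trans c3.symm,
    (fun h => b3.trans (fx_of (P := p9) (e := 4) h rfl (by decide +kernel))),
    (fun h => ⟨b6.trans (fx_of (P := p12) (e := 10) h rfl (by decide +kernel)),
      c6.trans (fx_of (P := p12) (e := 15) h rfl (by decide +kernel))⟩),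
    (fun h => ⟨b6.trans (fx_of (P := p13) (e := 10) h rfl (by decide +kernel)),
      c6.trans (fx_of (P := p13) (e := 15) h rfl (by decide +kernel))⟩),
    (fun h => ⟨b6.trans (fx_of (P := p14) (e := 10) h rfl (by decide +kernel)),
      c6.trans (fx_of (P := p14) (e := 15) h rfl (by decide +kernel))⟩),
    (fun h => c5.trans (fx_of (P := p16) (e := 9) h rfl (by decide +kernel))),
    (fun h => c5.trans (fx_of (P := p20) (e := 9) h rfl (by decide +kernel)))⟩

theorem fam_sq (g : Suz) : fam (g ^ 2) = P2.getD (fam g) 0 := (fam_pw g).1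

theorem fam_cu (g : Suz) : fam (g ^ 3) = P3.getD (fam g) 0 := (fam_pw g).2

/-! ### automorphisms -/

theorem fam_conj {b : Equiv.Perm (Fin 1782)} (hb : b ∈ A) {g h : Suz} (e : ψ h = b * ψ g * b⁻¹) : fam h = fam g := by
  have h1 : sg h = sg g := by
    rw [sg, sg, e]
    exact List.map_congr_left fun a _ => pwc_conj (H763.Ore.SuzTab.A_le_Aut hb) a
  rw [fam, fam, h1]

/-- conjugation by an element of `A` -/
theorem exists_autA {b : Equiv.Perm (Fin 1782)} (hb : b ∈ A) : ∃ σ : MulAut Suz, ∀ g, ψ (σ g) = b * ψ g * b⁻¹ := by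
  have hfin : Finite Suz := Nat.finite_of_card_ne_zero (by rw [card_Suz]; norm_num)
  have h : ∀ g : Suz, ∃ g' : Suz, ψ g' = b * ψ g * b⁻¹ := fun g => A_conj hb ⟨g, rfl⟩
  choose f hf using h
  let F : Suz →* Suz :=
    { toFun := f
      map_one' := ψ_injective (by rw [hf, map_one]; group)
      map_mul' := fun x y => ψ_injective (by rw [hf, map_mul, map_mul, hf, hf]; group) }
  have hF : Function.Injective F := by
    intro x y hxy
    have h1 : f x = f y := hxy
    have h2 : b * ψ x * b⁻¹ = b * ψ y * b⁻¹ := by rw [← hf, ← hf, h1]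
    exact ψ_injective (mul_left_cancel (mul_right_cancel h2))
  exact ⟨MulEquiv.ofBijective F (Finite.injective_iff_bijective.1 hF), fun g => hf g⟩

theorem fam_gal (y y' : Suz) (h : fam y = fam y') : ∃ σ : MulAut Suz, σ y = y' ∧ ∀ g, fam (σ g) = fam g := by
  obtain ⟨hi, r, -, hr, -, b, hb, e⟩ := fam_spec y
  obtain ⟨hi', r', -, hr', -, b', hb', e'⟩ := fam_spec y'
  have hrr : r = r' := perm_eq_of_tab hr (by
    intro p
    rw [hr']
    congr 3
    exact h.symm)
  subst hrr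
  obtain ⟨σ, hσ⟩ := exists_autA (A.mul_mem hb' (A.inv_mem hb))
  refine ⟨σ, ψ_injective ?_, fun g => fam_conj (A.mul_mem hb' (A.inv_mem hb)) (hσ g)⟩
  rw [hσ, e, e']
  group

/-- **the automorphisms of `Suz` are induced by `A`** -/
theorem exists_A (α : MulAut Suz) : ∃ b ∈ A, ∀ g, ψ (α g) = b * ψ g * b⁻¹ := by
  obtain ⟨τ, hτ⟩ := Cfsg.Agent.H323.SuzOut.exists_τ
  rcases Cfsg.Agent.KFacts.SuzOut.out_two τ α with ⟨n, hn⟩ | ⟨n, hn⟩ | ⟨n, hn⟩
  · exact absurd hn.symm (Cfsg.Agent.H323.SuzOut.τ_outer hτ n)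
  · refine ⟨ψ n, N_le_A ⟨n, rfl⟩, fun g => ?_⟩
    rw [← hn, MulAut.conj_apply, map_mul, map_mul, map_inv]
  · refine ⟨_, A.mul_mem T_mem_A (N_le_A ⟨n, rfl⟩), fun g => ?_⟩
    have h1 : α = τ * MulAut.conj n := by rw [hn]; group
    rw [h1, MulAut.mul_apply, hτ, MulAut.conj_apply, map_mul, map_mul, map_inv]
    group

theorem fam_aut (α : MulAut Suz) (g : Suz) : fam (α g) = fam g := by
  obtain ⟨b, hb, h⟩ := exists_A α
  exact fam_conj hb (h g)

/-! ### sizes -/

theorem SZ_chk : ∀ i < 37, SZ.getD i 0 ≤ (2 * 448345497600) / ((D.getD i (0, 0, [])).2.1 + 1) := by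
  have h : (D.map fun x => x.2.1) = (D.map fun x => x.2.1) := rfl
  decide +kernel

theorem SZ_sum : ((List.range 37).map fun i => SZ.getD i 0).sum = 448345497600 := by decide +kernel

theorem card_ge [Fintype Suz] {i : ℕ} (hi : i < 37) : SZ.getD i 0 ≤ (Finset.univ.filter fun g : Suz => fam g = i).card := by
  classical
  have hi2 : i < D.length := hi
  have hx : D[i] ∈ D := List.getElem_mem hi2
  obtain ⟨r, hrN, hr⟩ := D_mem _ hx
  obtain ⟨l, L, hb⟩ := D_bd _ hx
  obtain ⟨g0, hg0⟩ := hrN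
  have hc : Nat.card ↥(A ⊓ Subgroup.centralizer {r}) ≤ (D[i]).2.1 + 1 := by
    refine card_le_bound (by norm_num) hr hb (inf_le_left.trans H763.Ore.SuzTab.A_le_Aut) ?_
    intro σ hσ p
    have h1 := Subgroup.mem_centralizer_singleton_iff.1 (Subgroup.mem_inf.1 hσ).2
    exact congrArg (fun q : Equiv.Perm (Fin 1782) => q p) h1
  have h1 := ncard_cl r hc
  have h2 : (2 * 448345497600) / ((D[i]).2.1 + 1) ≤ Nat.card A / ((D[i]).2.1 + 1) := Nat.div_le_div_right card_A
  have h3 := SZ_chk i hi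
  rw [List.getD_eq_getElem _ _ hi2] at h3
  refine (h3.trans (h2.trans h1)).trans ?_
  -- the class is contained in the image of the family
  have hf0 : fam g0 = i := by
    refine fam_of_sg hi ?_
    rw [sg, hg0, sig_of_chk (by norm_num) hr (D_sg _ hx) (D_len _ hx), List.getD_eq_getElem _ _ (show i < SL.length from hi)]
    have h1 : (D.map fun x => x.2.2)[i]'(by rw [List.length_map]; exact hi) = (D[i]).2.2 := List.getElem_map _
    rw [← h1]
    rfl
  have h4 : {x | ∃ a ∈ A, x = a * r * a⁻¹} ⊆ ψ '' {g : Suz | fam g = i} := by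
    rintro x ⟨a, ha, rfl⟩
    obtain ⟨g, hg⟩ := A_conj ha (⟨g0, rfl⟩ : ψ g0 ∈ N)
    refine ⟨g, ?_, by rw [hg, hg0]⟩
    show fam g = i
    rw [fam_conj ha hg, hf0]
  refine (Set.ncard_le_ncard h4 (Set.toFinite _)).trans ?_
  rw [Set.ncard_image_of_injective _ ψ_injective, ← Set.ncard_coe_finset, Finset.coe_filter]
  simp

/-- **the sizes of the families** -/
theorem fam_card [Fintype Suz] (i : ℕ) : (Finset.univ.filter fun g : Suz => fam g = i).card = SZ.getD i 0 := by
  classical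
  by_cases hi : i < 37
  · have h1 : ∑ i ∈ Finset.range 37, (Finset.univ.filter fun g : Suz => fam g = i).card = 448345497600 := by
      rw [← Finset.card_eq_sum_card_fiberwise (f := fam) (s := Finset.univ) (t := Finset.range 37)
        (fun g _ => Finset.mem_coe.2 (Finset.mem_range.2 (fam_lt g))), Finset.card_univ, ← Nat.card_eq_fintype_card, card_Suz]
    have h2 : ∑ i ∈ Finset.range 37, SZ.getD i 0 = 448345497600 := SZ_sum
    have h3 : ∀ i ∈ Finset.range 37, SZ.getD i 0 ≤ (Finset.univ.filter fun g : Suz => fam g = i).card :=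
      fun i hi => card_ge (Finset.mem_range.1 hi)
    exact ((Finset.sum_eq_sum_iff_of_le h3).1 (h2.trans h1.symm) i (Finset.mem_range.2 hi)).symm
  · have h1 : (Finset.univ.filter fun g : Suz => fam g = i) = ∅ := by
      rw [Finset.filter_eq_empty_iff]
      intro g _ h
      exact hi (h ▸ fam_lt g)
    rw [h1, Finset.card_empty, List.getD_eq_default]
    exact not_lt.1 hi

/-- the family of the identity -/
theorem fam_one : fam (1 : Suz) = 1 := by
  have h1 := sg_fam 1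
  have h2 := fam_lt 1
  have h3 : (sg (1 : Suz)).getD 1 0 = 1782 := by
    show pwc row (ψ 1) (false, 1) = 1782
    unfold pwc
    have e : Nat.card {p : Fin 1782 // Pw row false p (((ψ 1) ^ 1) p)} = Nat.card (Fin 1782) :=
      Nat.card_congr (Equiv.subtypeUnivEquiv fun p => by
        show ((ψ 1) ^ 1) p = p
        rw [map_one, one_pow]
        rfl)
    rw [e, Nat.card_eq_fintype_card, Fintype.card_fin]
  rw [h1] at h3
  have h4 : ∀ i < 37, (SL.getD i []).getD 1 0 = 1782 → i = 1 := by decide +kernel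
  exact h4 _ h2 h3

end Cfsg.Agent.H714.S8.SuzFam
end

private theorem dce_b5355c09c329 : _root_.True := by
  try have : _root_.True := by simp only [_root_.Cfsg.Agent.H714.S8.SuzFam.sg.eq_1]
  try have : _root_.True := by simp only [_root_.Cfsg.Agent.H714.S8.SuzFam.fam.eq_1]
  exact _root_.True.intro
end

-- part: H714/S8/SuzGen
section
set_option linter.all false
open scoped Cfsg.Agent.FastGrp

/-!
# Irreducible characters of degree 197120 and 243243 of the Suzuki group (helper714)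

Straight-line program from the characters of degree 780 and 1001 of the rank 3 representation: products, exterior
squares, Adams operations and their adjoints, integral combinations.
-/

set_option autoImplicit false
set_option maxRecDepth 100000

namespace Cfsg.Agent.H714.S8.SuzFam

open Cfsg Cfsg.Spor Cfsg.Agent.H123.Cls Cfsg.Agent.H300.Cls Cfsg.Agent.Characters.Brauer Cfsg.Agent.Characters.Core
open Cfsg.Agent.OddHalf.Table.SuzRep (ψ ψ_val ψ_injective)
open Cfsg.Agent.SporadicRecognition.SuzOrder (card_Suz)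
open Cfsg.Agent.H714.S8.Fam

theorem finite_Suz : Finite Suz := Nat.finite_of_card_ne_zero (by rw [card_Suz]; norm_num)

theorem gmul {v w : List ℤ} (hv : GC fam v) (hw : GC fam w) (r : List ℤ)
    (h : chkAll 37 (fun i => decide (r.getD i 0 = v.getD i 0 * w.getD i 0)) = true) : GC fam r :=
  GC.mul fam_lt hv hw r h

theorem galt {v : List ℤ} (hv : GC fam v) (r : List ℤ)
    (h : chkAll 37 (fun i => decide (2 * r.getD i 0 = v.getD i 0 ^ 2 - v.getD (P2.getD i 0) 0)) = true) : GC fam r :=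
  GC.alt fam_lt fam_sq hv r h

theorem gpsi2 {v : List ℤ} (hv : GC fam v) (r : List ℤ)
    (h : chkAll 37 (fun i => decide (r.getD i 0 = v.getD (P2.getD i 0) 0)) = true) : GC fam r :=
  have := finite_Suz
  GC.psi fam_lt fam_sq hv r h

theorem gpsi3 {v : List ℤ} (hv : GC fam v) (r : List ℤ)
    (h : chkAll 37 (fun i => decide (r.getD i 0 = v.getD (P3.getD i 0) 0)) = true) : GC fam r :=
  have := finite_Suz
  GC.psi fam_lt fam_cu hv r h

theorem gadj2 {v : List ℤ} (hv : GC fam v) (r : List ℤ)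
    (h : chkAll 37 (fun t => decide ((SZ.getD t 0 : ℤ) * r.getD t 0 =
      ((List.range 37).map fun i => if P2.getD i 0 = t then (SZ.getD i 0 : ℤ) * v.getD i 0 else 0).sum)) = true) :
    GC fam r := by
  have := finite_Suz
  have := Fintype.ofFinite Suz
  exact GC.adjA fam_lt fam_sq SZ fam_card fam_gal hv r h

theorem gadj3 {v : List ℤ} (hv : GC fam v) (r : List ℤ)
    (h : chkAll 37 (fun t => decide ((SZ.getD t 0 : ℤ) * r.getD t 0 =
      ((List.range 37).map fun i => if P3.getD i 0 = t then (SZ.getD i 0 : ℤ) * v.getD i 0 else 0).sum)) = true) :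
    GC fam r := by
  have := finite_Suz
  have := Fintype.ofFinite Suz
  exact GC.adjA fam_lt fam_cu SZ fam_card fam_gal hv r h

/-- an irreducible character invariant under automorphisms -/
theorem girr {v : List ℤ} (hv : GC fam v) {d : ℕ} (hd : v.getD 1 0 = d) (h0 : 0 < v.getD 1 0)
    (h : ((List.range 37).map fun i => (SZ.getD i 0 : ℤ) * v.getD i 0 ^ 2).sum = (448345497600 : ℕ)) :
    ∃ θ : Suz → ℂ, IsIrrCharacter Suz θ ∧ θ 1 = (d : ℕ) ∧ ∀ (α : MulAut Suz) g, θ (α g) = θ g := by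
  have := finite_Suz
  have := Fintype.ofFinite Suz
  refine ⟨tv fam v, GC.irrFam fam_lt SZ fam_card hv ?_ ?_, ?_, fun α g => ?_⟩
  · rw [h, card_Suz]
  · rw [fam_one]
    exact h0
  · rw [tv, fam_one, hd]
    norm_num
  · rw [tv, tv, fam_aut]

/-- the trivial character -/
def v0 : List ℤ := [
  1, 1, 1, 1, 1, 1, 1, 1, 1, 1, 1, 1, 1, 1, 1, 1, 1, 1, 1, 1, 1, 1, 1, 1, 1, 1, 1, 1, 1, 1, 1, 1, 1, 1, 1, 1,
  1]

/-- the character of degree 780 -/
def v1 : List ℤ := [
  12, 780, -4, -3, -3, -2, 6, 1, -1, -1, -1, 0, 0, 0, 0, 2, 0, 0, 1, 0, 0, 0, 0, 0, 1, 2, 1, 1, 9, 3, 4, 20,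
  3, 4, 10, 28, 105]

/-- the character of degree 1001 -/
def v2 : List ℤ := [
  41, 1001, 9, 2, 2, 1, 11, 4, 0, 0, 0, 1, 1, 1, 1, 3, 0, 0, 1, -1, -1, -1, -1, -1, 0, 1, -2, -2, 8, 0, 1,
  21, -4, -3, 1, 1, 56]

theorem g0 : GC fam v0 := by
  refine GC.of (isGeneralizedCharacter_of_isCharacter isCharacter_one) fun g => ?_
  have h : ∀ i < 37, v0.getD i 0 = 1 := by decide +kernel
  rw [tv, h _ (fam_lt g)]
  simp

theorem cardF {X : Type*} [Fintype X] (P : X → Prop) [DecidablePred P] :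
    (Finset.univ.filter fun x => P x).card = Nat.card {x // P x} := by
  rw [Nat.card_eq_fintype_card, Fintype.card_subtype]

/-- the eigencharacters in terms of the signature -/
theorem gsrg {θ τ : ℤ} (hsum : θ + τ = (100 : ℕ) - (96 : ℕ)) (hprod : θ * τ = (96 : ℕ) - (416 : ℕ)) (hne : θ ≠ τ) (v : List ℤ)
    (h : ∀ i < 37, (θ - τ) * v.getD i 0 = 416 + θ * (((SL.getD i []).getD 1 0 : ℕ) - 1) - ((SL.getD i []).getD 0 0 : ℕ)) :
    GC fam v := by
  classical
  have hfin := finite_Suz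
  let := Cfsg.Agent.H689.EB.Suz.act
  have hR := Cfsg.Agent.H689.EB.Suz.rank3
  have hc := Cfsg.Agent.H447.CTab.isCharacter_srg (G := Suz) (X := Fin 1782) Cfsg.Agent.H689.EB.Suz.A
    (fun g x y => ⟨fun h => by
      have := hR.inv g⁻¹ _ _ h
      rwa [inv_smul_smul, inv_smul_smul] at this, hR.inv g x y⟩) hR.symm hR.irrefl (k0 := 416) (lam := 100) (mu := 96)
    (fun x => by rw [cardF]; exact hR.deg x)
    (fun x y hxy => by
      rw [cardF, ← hR.lam_eq x y hxy]
      exact Nat.card_congr (Equiv.subtypeEquivRight fun z => ⟨fun h => ⟨h.1, hR.symm _ _ h.2⟩, fun h => ⟨h.1, hR.symm _ _ h.2⟩⟩))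
    (fun x y hne hxy => by
      rw [cardF, ← hR.mu_eq x y hne hxy]
      exact Nat.card_congr (Equiv.subtypeEquivRight fun z => ⟨fun h => ⟨h.1, hR.symm _ _ h.2⟩, fun h => ⟨h.1, hR.symm _ _ h.2⟩⟩))
    hsum hprod hne
  refine GC.of (isGeneralizedCharacter_of_isCharacter hc) fun g => ?_
  have h1 : Nat.card (MulAction.fixedBy (Fin 1782) g) = (SL.getD (fam g) []).getD 1 0 := by
    rw [← sg_fam]
    show _ = pwc SuzDat.row (ψ g) (false, 1)
    unfold pwc
    refine Nat.card_congr (Equiv.subtypeEquivRight fun p => ?_)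
    show ψ g p = p ↔ ((ψ g) ^ 1) p = p
    rw [pow_one]
  have h2 : (Finset.univ.filter fun x : Fin 1782 => Cfsg.Agent.H689.EB.Suz.A x (g • x)).card = (SL.getD (fam g) []).getD 0 0 := by
    rw [← sg_fam]
    show _ = pwc SuzDat.row (ψ g) (true, 1)
    unfold pwc
    rw [cardF]
    refine Nat.card_congr (Equiv.subtypeEquivRight fun p => ?_)
    show (OddHalf.Table.SuzGraph.row p).testBit (ψ g p : Fin 1782) = true ↔
      (SuzDat.row p).testBit (((ψ g) ^ 1) p : Fin 1782) = true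
    rw [pow_one, H763.Ore.SuzTab.row_eq p.2]
  have h3 : ((θ : ℂ) - τ) ≠ 0 := by
    rw [sub_ne_zero]
    exact_mod_cast hne
  have h4 := congrArg (fun z : ℤ => (z : ℂ)) (h (fam g) (fam_lt g))
  push_cast at h4
  rw [h1, h2, tv, eq_div_iff h3, mul_comm, h4]
  push_cast
  ring

theorem g1 : GC fam v1 := gsrg (θ := -16) (τ := 20) (by norm_num) (by norm_num) (by norm_num) v1 (by decide +kernel)

private noncomputable def _root_.Cfsg.Agent.KOc9088f3.k0 : type_of% @Decidable.decide := @(fun x0 x1 => @Decidable.rec.{1} _ @(fun x2 => @Bool) @(fun x2 => @Bool.false) @(fun x2 => @Bool.true) @x1)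
private theorem _root_.Cfsg.Agent.KOc9088f3.e0 : @Decidable.decide = @_root_.Cfsg.Agent.KOc9088f3.k0 := by delta _root_.Cfsg.Agent.KOc9088f3.k0; rfl'
private noncomputable def _root_.Cfsg.Agent.KOc9088f3.k1l (n : Nat) (P : ∀ k, k < n → Prop) (H : ∀ k h, Decidable (P k h)) (m : Nat) : m ≤ n → Bool := @Nat.rec (fun m => m ≤ n → Bool) (fun _ => true) (fun k ih h => @Decidable.rec (P k h) (fun _ => Bool) (fun _ => false) (fun _ => ih (Nat.le_of_succ_le h)) (H k h)) m
private theorem _root_.Cfsg.Agent.KOc9088f3.k1ls (n : Nat) (P : ∀ k, k < n → Prop) (H : ∀ k h, Decidable (P k h)) (m : Nat) : ∀ h : m ≤ n, _root_.Cfsg.Agent.KOc9088f3.k1l n P H m h = true ↔ ∀ k (g : k < m), P k (Nat.lt_of_lt_of_le g h) := by induction m with | zero => exact fun _ => ⟨fun _ _ g => absurd g (Nat.not_lt_zero _), fun _ => rfl⟩ | succ m ih => intro h; show @Decidable.rec (P m h) (fun _ => Bool) (fun _ => false) (fun _ => _root_.Cfsg.Agent.KOc9088f3.k1l n P H m (Nat.le_of_succ_le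 h)) (H m h) = true ↔ _; cases H m h with | isFalse q => exact ⟨fun g => absurd g Bool.false_ne_true, fun g => absurd (g m (Nat.lt_succ_self m)) q⟩ | isTrue q => exact ⟨fun g k hk => (Nat.lt_succ_iff_lt_or_eq.1 hk).elim ((ih _).1 g k) fun e => by subst e; exact q, fun g => (ih _).2 fun k hk => g k (Nat.lt_succ_of_lt hk)⟩
private noncomputable def _root_.Cfsg.Agent.KOc9088f3.k1 (n : Nat) (P : ∀ k, k < n → Prop) (H : ∀ k h, Decidable (P k h)) : Decidable (∀ k h, P k h) := @Bool.rec (fun b => _root_.Cfsg.Agent.KOc9088f3.k1l n P H n (Nat.le_refl n) = b → Decidable (∀ k h, P k h)) (fun g => isFalse fun q => Bool.false_ne_true (g.symm.trans ((_root_.Cfsg.Agent.KOc9088f3.k1ls n P H n _).2 fun k h => q k h))) (fun g => isTrue fun k h => (_root_.Cfsg.Agent.KOc9088f3.k1ls n P H n _).1 g k h) (_root_.Cfsg.Agent.KOc9088f3.k1l n P H n (Nat.le_refl n)) rfl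
private theorem _root_.Cfsg.Agent.KOc9088f3.e1 : @Nat.decidableBallLT = @_root_.Cfsg.Agent.KOc9088f3.k1 := funext fun _ => funext fun _ => funext fun _ => Subsingleton.elim _ _
private noncomputable def _root_.Cfsg.Agent.KOc9088f3.k2 : type_of% @Nat.decEq := @(fun x0 x1 => @Bool.rec.{1} @(fun x2 => (@Eq.{1} _ (@Nat.beq @x0 @x1) @x2) → @Decidable (@Eq.{1} _ @x0 @x1)) @(fun x2 => @Decidable.isFalse _ (@Nat.ne_of_beq_eq_false _ _ @x2)) @(fun x2 => @Decidable.isTrue _ (@Nat.eq_of_beq_eq_true _ _ @x2)) (@Nat.beq @x0 @x1) (@Eq.refl.{1} _ (@Nat.beq @x0 @x1)))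
private theorem _root_.Cfsg.Agent.KOc9088f3.e2 : @Nat.decEq = @_root_.Cfsg.Agent.KOc9088f3.k2 := by delta _root_.Cfsg.Agent.KOc9088f3.k2; rfl'
private noncomputable def _root_.Cfsg.Agent.KOc9088f3.k3 : type_of% @Int.decEq := @(fun x0 x1 => @Int.rec.{1} @(fun x2 => @Decidable (@Eq.{1} _ @x2 @x1)) @(fun x2 => @Int.rec.{1} @(fun x3 => @Decidable (@Eq.{1} _ (@Int.ofNat @x2) @x3)) @(fun x3 => @Decidable.rec.{1} _ @(fun x4 => @Decidable (@Eq.{1} _ (@Int.ofNat @x2) (@Int.ofNat @x3))) @(fun x4 => @Decidable.isFalse _ (@Int.decEq._proof_2 @x2 @x3 @x4)) @(fun x4 => @Decidable.isTrue _ (@Int.decEq._proof_1 @x2 @x3 @x4)) (@Cfsg.Agent.KOc9088f3.k2 @x2 @x3)) @(fun x3 => @Decidable.isFalse _ (@Int.decEq._proof_3 @x2 @x3)) @x1) @(fun x2 => @Int.rec.{1} @(fun x3 => @Decidable (@Eq.{1} _ (@Int.negSucc @x2) @x3)) @(fun x3 => @Decidable.isFalse _ (@Int.decEq._proof_4 @x2 @x3)) @(fun x3 => @Decidable.rec.{1} _ @(fun x4 => @Decidable (@Eq.{1} _ (@Int.negSucc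 @x2) (@Int.negSucc @x3))) @(fun x4 => @Decidable.isFalse _ (@Int.decEq._proof_6 @x2 @x3 @x4)) @(fun x4 => @Decidable.isTrue _ (@Int.decEq._proof_5 @x2 @x3 @x4)) (@Cfsg.Agent.KOc9088f3.k2 @x2 @x3)) @x1) @x0)
private theorem _root_.Cfsg.Agent.KOc9088f3.e3 : @Int.decEq = @_root_.Cfsg.Agent.KOc9088f3.k3 := by delta _root_.Cfsg.Agent.KOc9088f3.k3; rewrite [← Cfsg.Agent.KOc9088f3.e2]; rfl'
private noncomputable def _root_.Cfsg.Agent.KOc9088f3.k4 : type_of% @Int.instDecidableEq := @Cfsg.Agent.KOc9088f3.k3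
private theorem _root_.Cfsg.Agent.KOc9088f3.e4 : @Int.instDecidableEq = @_root_.Cfsg.Agent.KOc9088f3.k4 := by delta _root_.Cfsg.Agent.KOc9088f3.k4; rewrite [← Cfsg.Agent.KOc9088f3.e3]; rfl'
private theorem _root_.Cfsg.Agent.KOc9088f3.e5.{ku, kv} {α : Type kv} {M : List α → Sort ku} (φ : ∀ l, M l) {z : M List.nil} {s : ∀ a l, M l → M (List.cons a l)} (h0 : φ List.nil = z) (hs : ∀ a l, φ (List.cons a l) = s a l (φ l)) (l : List α) : φ l = @List.rec α M z s l := List.rec h0 (fun a l ih => (hs a l).trans (congrArg (s a l) ih)) l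
private noncomputable def _root_.Cfsg.Agent.KOc9088f3.k7.{ku0} : type_of% @List.get?Internal.{ku0} := @(fun x0 x1 x2 => @List.rec.{(ku0+1), ku0} @x0 @(fun x3 => ℕ → @Option.{ku0} @x0) @(fun x3 => @Option.none.{ku0} _) @(fun x3 x4 x5 x6 => @Nat.rec.{(ku0+1)} @(fun x7 => @Option.{ku0} @x0) (@Option.some.{ku0} _ @x3) @(fun x7 x8 => @x5 @x7) @x6) @x1 @x2)
private theorem _root_.Cfsg.Agent.KOc9088f3.e7.{ku0} : @List.get?Internal.{ku0} = @_root_.Cfsg.Agent.KOc9088f3.k7.{ku0} := by delta _root_.Cfsg.Agent.KOc9088f3.k7; funext a0 a1 a2; refine (congrFun (_root_.Cfsg.Agent.KOc9088f3.e5 (fun a1 a2 => @List.get?Internal.{ku0} a0 a1 a2) ?_ (fun c0 c1 => ?_) a1) a2 :) <;> [(funext b0; (rfl')); (funext b0; (cases b0 with | @zero  => (rfl') | @succ b0_0 => (rfl')))]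
private noncomputable def _root_.Cfsg.Agent.KOc9088f3.k8.{ku0} : type_of% @List.getD.{ku0} := @(fun x0 x1 x2 x3 => @Option.rec.{(ku0+1), ku0} @x0 @(fun x4 => @x0) @x3 @(fun x4 => @x4) (@Cfsg.Agent.KOc9088f3.k7.{ku0} _ @x1 @x2))
private theorem _root_.Cfsg.Agent.KOc9088f3.e8.{ku0} : @List.getD.{ku0} = @_root_.Cfsg.Agent.KOc9088f3.k8.{ku0} := by delta _root_.Cfsg.Agent.KOc9088f3.k8; rewrite [← Cfsg.Agent.KOc9088f3.e7.{ku0}]; rfl'

theorem g2 : GC fam v2 := gsrg (θ := 20) (τ := -16) (by norm_num) (by norm_num) (by norm_num) v2 (by (first | (refine of_decide_eq_true ?_; rewrite [Cfsg.Agent.KOc9088f3.e0, Cfsg.Agent.KOc9088f3.e1, Cfsg.Agent.KOc9088f3.e4, Cfsg.Agent.KOc9088f3.e8.{0}]; decide +kernel) | decide +kernel))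

/-- a generalized character -/
def v3 : List ℤ := [
  144, 608400, 16, 9, 9, 4, 36, 1, 1, 1, 1, 0, 0, 0, 0, 4, 0, 0, 1, 0, 0, 0, 0, 0, 1, 4, 1, 1, 81, 9, 16,
  400, 9, 16, 100, 784, 11025]

theorem g3 : GC fam v3 := gmul g1 g1 v3 (by decide +kernel)

/-- a generalized character -/
def v4 : List ℤ := [
  492, 780780, -36, -6, -6, -2, 66, 4, 0, 0, 0, 0, 0, 0, 0, 6, 0, 0, 1, 0, 0, 0, 0, 0, 0, 2, -2, -2, 72, 0,
  4, 420, -12, -12, 10, 28, 5880]

private noncomputable def _root_.Cfsg.Agent.KOc9088f3.k9.{ku0} : type_of% @List.all.{ku0} := @(fun x0 x1 x2 => @List.rec.{(ku0+1), ku0} @x0 @(fun x3 => (@x0 → @Bool) → @Bool) @(fun x3 => @Bool.true) @(fun x3 x4 x5 x6 => @Bool.rec.{1} @(fun x7 => @Bool) @Bool.false (@x5 @x6) (@x6 @x3)) @x1 @x2)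
private theorem _root_.Cfsg.Agent.KOc9088f3.e9.{ku0} : @List.all.{ku0} = @_root_.Cfsg.Agent.KOc9088f3.k9.{ku0} := by delta _root_.Cfsg.Agent.KOc9088f3.k9; funext a0 a1 a2; refine (congrFun (_root_.Cfsg.Agent.KOc9088f3.e5 (fun a1 a2 => @List.all.{ku0} a0 a1 a2) ?_ (fun c0 c1 => ?_) a1) a2 :) <;> (rfl')
private theorem _root_.Cfsg.Agent.KOc9088f3.e10.{ku} {M : Nat → Sort ku} (φ : ∀ n, M n) {z : M Nat.zero} {s : ∀ n, M n → M (Nat.succ n)} (h0 : φ Nat.zero = z) (hs : ∀ n, φ (Nat.succ n) = s n (φ n)) (n : Nat) : φ n = @Nat.rec M z s n := Nat.rec h0 (fun n ih => (hs n).trans (congrArg (s n) ih)) n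
private noncomputable def _root_.Cfsg.Agent.KOc9088f3.k11 : type_of% @List.range.loop := @(fun x0 x1 => @Nat.rec.{1} @(fun x2 => (@List.{0} ℕ) → @List.{0} ℕ) @(fun x2 => @x2) @(fun x2 x3 x4 => @x3 (@x2 :: @x4)) @x0 @x1)
private theorem _root_.Cfsg.Agent.KOc9088f3.e11 : @List.range.loop = @_root_.Cfsg.Agent.KOc9088f3.k11 := by delta _root_.Cfsg.Agent.KOc9088f3.k11; funext a0 a1; refine (congrFun (_root_.Cfsg.Agent.KOc9088f3.e10 (fun a0 a1 => @List.range.loop a0 a1) ?_ (fun c0 => ?_) a0) a1 :) <;> (rfl')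
private noncomputable def _root_.Cfsg.Agent.KOc9088f3.k12 : (by first | exact type_of% @Cfsg.Agent.H300.Cls.chkAll | exact Unit : Sort _) := by first | (refine @Subtype.val _ (fun g => @Cfsg.Agent.H300.Cls.chkAll = @g) (@Subtype.mk _ _ (@(fun x0 x1 => @Cfsg.Agent.KOc9088f3.k9.{0} _ (@Cfsg.Agent.KOc9088f3.k11 @x0 []) @x1)) ?_); rewrite [← Cfsg.Agent.KOc9088f3.e11, ← Cfsg.Agent.KOc9088f3.e9.{0}]; rfl') | exact @Cfsg.Agent.H300.Cls.chkAll | exact ()
private theorem _root_.Cfsg.Agent.KOc9088f3.e12 : (by first | exact @Cfsg.Agent.H300.Cls.chkAll = @_root_.Cfsg.Agent.KOc9088f3.k12 | exact True : Prop) := by first | (delta _root_.Cfsg.Agent.KOc9088f3.k12; exact @Subtype.property _ (fun g => @Cfsg.Agent.H300.Cls.chkAll = @g) _) | rfl | trivial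

theorem g4 : GC fam v4 := gmul g1 g2 v4 (by (first | (rewrite [Cfsg.Agent.KOc9088f3.e12, Cfsg.Agent.KOc9088f3.e0, Cfsg.Agent.KOc9088f3.e4, Cfsg.Agent.KOc9088f3.e8.{0}]; decide +kernel) | decide +kernel))

/-- a generalized character -/
def v5 : List ℤ := [
  1681, 1002001, 81, 4, 4, 1, 121, 16, 0, 0, 0, 1, 1, 1, 1, 9, 0, 0, 1, 1, 1, 1, 1, 1, 0, 1, 4, 4, 64, 0, 1,
  441, 16, 9, 1, 1, 3136]

theorem g5 : GC fam v5 := gmul g2 g2 v5 (by decide +kernel)

/-- a generalized character -/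
def v6 : List ℤ := [
  3312, 2915056, 48, 24, 136, 0, 46, 12, 0, 1, 0, 0, 0, 1, 16, 2, 1, 1, 1, 0, 4, 0, 0, 0, 0, 2, 0, 0, 84, 4,
  0, 560, 0, 48, 46, 240, 2836]

private noncomputable def _root_.Cfsg.Agent.KOc9088f3.k13.{ku0, ku1} : type_of% @List.foldr.{ku0, ku1} := @(fun x0 x1 x2 x3 x4 => @List.rec.{(ku1+1), ku0} @x0 @(fun x5 => @x1) @x3 @(fun x5 x6 x7 => @x2 @x5 @x7) @x4)
private theorem _root_.Cfsg.Agent.KOc9088f3.e13.{ku0, ku1} : @List.foldr.{ku0, ku1} = @_root_.Cfsg.Agent.KOc9088f3.k13.{ku0, ku1} := by delta _root_.Cfsg.Agent.KOc9088f3.k13; funext a0 a1 a2 a3 a4; refine (_root_.Cfsg.Agent.KOc9088f3.e5 (fun a4 => @List.foldr.{ku0, ku1} a0 a1 a2 a3 a4) ?_ (fun c0 c1 => ?_) a4 :) <;> (rfl')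
private noncomputable def _root_.Cfsg.Agent.KOc9088f3.k14.{ku0} : type_of% @List.sum.{ku0} := @(fun x0 x1 x2 => @Cfsg.Agent.KOc9088f3.k13.{ku0, ku0} _ _ @(fun x3 x4 => @Add.add.{ku0} _ @x1 @x3 @x4) (@Zero.zero.{ku0} _ @x2))
private theorem _root_.Cfsg.Agent.KOc9088f3.e14.{ku0} : @List.sum.{ku0} = @_root_.Cfsg.Agent.KOc9088f3.k14.{ku0} := by delta _root_.Cfsg.Agent.KOc9088f3.k14; rewrite [← Cfsg.Agent.KOc9088f3.e13.{ku0, ku0}]; rfl'
private noncomputable def _root_.Cfsg.Agent.KOc9088f3.k15.{ku0, ku1} : type_of% @List.map.{ku0, ku1} := @(fun x0 x1 x2 x3 => @List.rec.{(ku1+1), ku0} @x0 @(fun x4 => @List.{ku1} @x1) [] @(fun x4 x5 x6 => (@x2 @x4) :: @x6) @x3)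
private theorem _root_.Cfsg.Agent.KOc9088f3.e15.{ku0, ku1} : @List.map.{ku0, ku1} = @_root_.Cfsg.Agent.KOc9088f3.k15.{ku0, ku1} := by delta _root_.Cfsg.Agent.KOc9088f3.k15; funext a0 a1 a2 a3; refine (_root_.Cfsg.Agent.KOc9088f3.e5 (fun a3 => @List.map.{ku0, ku1} a0 a1 a2 a3) ?_ (fun c0 c1 => ?_) a3 :) <;> (rfl')
private noncomputable def _root_.Cfsg.Agent.KOc9088f3.k16.{ku0} : type_of% @ite.{ku0} := @(fun x0 x1 x2 x3 x4 => @Decidable.rec.{ku0} _ @(fun x5 => @x0) @(fun x5 => @x4) @(fun x5 => @x3) @x2)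
private theorem _root_.Cfsg.Agent.KOc9088f3.e16.{ku0} : @ite.{ku0} = @_root_.Cfsg.Agent.KOc9088f3.k16.{ku0} := by delta _root_.Cfsg.Agent.KOc9088f3.k16; rfl'
private noncomputable def _root_.Cfsg.Agent.KOc9088f3.k17 : type_of% @instDecidableEqNat := @Cfsg.Agent.KOc9088f3.k2
private theorem _root_.Cfsg.Agent.KOc9088f3.e17 : @instDecidableEqNat = @_root_.Cfsg.Agent.KOc9088f3.k17 := by delta _root_.Cfsg.Agent.KOc9088f3.k17; rewrite [← Cfsg.Agent.KOc9088f3.e2]; rfl'
private noncomputable def _root_.Cfsg.Agent.KOc9088f3.k18 : type_of% @List.range := @(fun x0 => @Cfsg.Agent.KOc9088f3.k11 @x0 [])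
private theorem _root_.Cfsg.Agent.KOc9088f3.e18 : @List.range = @_root_.Cfsg.Agent.KOc9088f3.k18 := by delta _root_.Cfsg.Agent.KOc9088f3.k18; rewrite [← Cfsg.Agent.KOc9088f3.e11]; rfl'

theorem g6 : GC fam v6 := gadj2 g0 v6 (by (first | (rewrite [Cfsg.Agent.KOc9088f3.e12, Cfsg.Agent.KOc9088f3.e0, Cfsg.Agent.KOc9088f3.e4, Cfsg.Agent.KOc9088f3.e8.{0}, Cfsg.Agent.KOc9088f3.e14.{0}, Cfsg.Agent.KOc9088f3.e15.{0, 0}, Cfsg.Agent.KOc9088f3.e16.{1}, Cfsg.Agent.KOc9088f3.e17, Cfsg.Agent.KOc9088f3.e18]; decide +kernel) | decide +kernel))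

/-- a generalized character -/
def v7 : List ℤ := [
  13761, 151236801, 129, 0, 1296, 1, 0, 0, 0, 1, 1, 1, 1, 0, 21, 0, 1, 0, 0, 0, 0, 0, 9, 1, 0, 1, 0, 0, 0, 9,
  9, 2241, 72, 33, 81, 801, 0]

theorem g7 : GC fam v7 := gadj3 g0 v7 (by (first | (rewrite [Cfsg.Agent.KOc9088f3.e12, Cfsg.Agent.KOc9088f3.e0, Cfsg.Agent.KOc9088f3.e4, Cfsg.Agent.KOc9088f3.e8.{0}, Cfsg.Agent.KOc9088f3.e14.{0}, Cfsg.Agent.KOc9088f3.e15.{0, 0}, Cfsg.Agent.KOc9088f3.e16.{1}, Cfsg.Agent.KOc9088f3.e17, Cfsg.Agent.KOc9088f3.e18]; decide +kernel) | decide +kernel))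

/-- a generalized character -/
def v8 : List ℤ := [
  439, 778999, -41, -5, -5, -1, 49, -1, 1, 1, 1, -1, -1, -1, -1, 1, 0, 0, -1, 1, 1, 1, 1, 1, -1, -1, -1, -1,
  55, -3, -1, 379, -11, -13, -1, -1, 5719]

private noncomputable def _root_.Cfsg.Agent.KOc9088f3.k19 : type_of% @Int.add := @(fun x0 x1 => @Int.rec.{1} @(fun x2 => ℤ) @(fun x2 => @Int.rec.{1} @(fun x3 => ℤ) @(fun x3 => @Int.ofNat (@Nat.add @x2 @x3)) @(fun x3 => @Nat.rec.{1} @(fun x4 => ℤ) (@Int.ofNat (@Nat.sub @x2 (@Nat.succ @x3))) @(fun x4 x5 => @Int.negSucc @x4) (@Nat.sub (@Nat.succ @x3) @x2)) @x1) @(fun x2 => @Int.rec.{1} @(fun x3 => ℤ) @(fun x3 => @Nat.rec.{1} @(fun x4 => ℤ) (@Int.ofNat (@Nat.sub @x3 (@Nat.succ @x2))) @(fun x4 x5 => @Int.negSucc @x4) (@Nat.sub (@Nat.succ @x2) @x3)) @(fun x3 => @Int.negSucc (@Nat.succ (@Nat.add @x2 @x3))) @x1) @x0)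
private theorem _root_.Cfsg.Agent.KOc9088f3.e19 : @Int.add = @_root_.Cfsg.Agent.KOc9088f3.k19 := by delta _root_.Cfsg.Agent.KOc9088f3.k19; rfl'
private noncomputable def _root_.Cfsg.Agent.KOc9088f3.k20 : type_of% @Int.mul := @(fun x0 x1 => @Int.rec.{1} @(fun x2 => ℤ) @(fun x2 => @Int.rec.{1} @(fun x3 => ℤ) @(fun x3 => @Int.ofNat (@Nat.mul @x2 @x3)) @(fun x3 => @Nat.rec.{1} @(fun x4 => ℤ) (@Int.ofNat (nat_lit 0)) @(fun x4 x5 => @Int.negSucc @x4) (@Nat.mul @x2 (@Nat.succ @x3))) @x1) @(fun x2 => @Int.rec.{1} @(fun x3 => ℤ) @(fun x3 => @Nat.rec.{1} @(fun x4 => ℤ) (@Int.ofNat (nat_lit 0)) @(fun x4 x5 => @Int.negSucc @x4) (@Nat.mul (@Nat.succ @x2) @x3)) @(fun x3 => @Int.ofNat (@Nat.mul (@Nat.succ @x2) (@Nat.succ @x3))) @x1) @x0)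
private theorem _root_.Cfsg.Agent.KOc9088f3.e20 : @Int.mul = @_root_.Cfsg.Agent.KOc9088f3.k20 := by delta _root_.Cfsg.Agent.KOc9088f3.k20; rfl'
private noncomputable def _root_.Cfsg.Agent.KOc9088f3.k21 : (by first | exact type_of% @Cfsg.Agent.H300.Cls.lc | exact Unit : Sort _) := by first | (refine @Subtype.val _ (fun g => @Cfsg.Agent.H300.Cls.lc = @g) (@Subtype.mk _ _ (@(fun x0 x1 => @List.rec.{1, 0} (ℤ × (@List.{0} ℤ)) @(fun x2 => ℕ → ℤ) @(fun x2 => @Int.ofNat (nat_lit 0)) @(fun x2 x3 x4 x5 => @Cfsg.Agent.KOc9088f3.k19 (@Cfsg.Agent.KOc9088f3.k20 (@Prod.fst.{0, 0} _ _ @x2) (@Option.rec.{1, 0} ℤ @(fun x6 => ℤ) (@Int.ofNat (nat_lit 0)) @(fun x6 => @x6) (@Cfsg.Agent.KOc9088f3.k7.{0} _ (@Prod.snd.{0, 0} _ _ @x2) @x5))) (@x4 @x5)) @x0 @x1)) ?_); rewrite [← Cfsg.Agent.KOc9088f3.e7.{0}, ← Cfsg.Agent.KOc9088f3.e20, ← Cfsg.Agent.KOc9088f3.e19]; funext a0 a1; refine (congrFun (_root_.Cfsg.Agent.KOc9088f3.e5 (fun a0 a1 => @Cfsg.Agent.H300.Cls.lc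 a0 a1) ?_ (fun c0 c1 => ?_) a0) a1 :) <;> (rfl')) | exact @Cfsg.Agent.H300.Cls.lc | exact ()
private theorem _root_.Cfsg.Agent.KOc9088f3.e21 : (by first | exact @Cfsg.Agent.H300.Cls.lc = @_root_.Cfsg.Agent.KOc9088f3.k21 | exact True : Prop) := by first | (delta _root_.Cfsg.Agent.KOc9088f3.k21; exact @Subtype.property _ (fun g => @Cfsg.Agent.H300.Cls.lc = @g) _) | rfl | trivial

theorem g8 : GC fam v8 := GC.lin fam_lt [
    (-1, v1), (-1, v2), (1, v4)]
    (List.forall_mem_cons.2 ⟨g1, List.forall_mem_cons.2 ⟨g2, List.forall_mem_cons.2 ⟨g4, List.forall_mem_nil _⟩⟩⟩) v8 (by (first | (rewrite [Cfsg.Agent.KOc9088f3.e12, Cfsg.Agent.KOc9088f3.e0, Cfsg.Agent.KOc9088f3.e4, Cfsg.Agent.KOc9088f3.e8.{0}, Cfsg.Agent.KOc9088f3.e21]; decide +kernel) | decide +kernel))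

/-- a generalized character -/
def v9 : List ℤ := [
  1188, 221220, 116, 9, 9, 2, 54, 11, -1, -1, -1, 0, 0, 0, 0, 2, -1, -1, -1, 0, 0, 0, 0, 0, -1, -2, 5, 5, -9,
  -1, -4, 20, 27, 20, -10, -28, -2745]

theorem g9 : GC fam v9 := GC.lin fam_lt [
    (-1, v0), (-1, v4), (1, v5)]
    (List.forall_mem_cons.2 ⟨g0, List.forall_mem_cons.2 ⟨g4, List.forall_mem_cons.2 ⟨g5, List.forall_mem_nil _⟩⟩⟩) v9 (by (first | (rewrite [Cfsg.Agent.KOc9088f3.e12, Cfsg.Agent.KOc9088f3.e0, Cfsg.Agent.KOc9088f3.e4, Cfsg.Agent.KOc9088f3.e8.{0}, Cfsg.Agent.KOc9088f3.e21]; decide +kernel) | decide +kernel))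

/-- a generalized character -/
def v10 : List ℤ := [
  1631, 1913055, -33, 20, 132, -1, -75, -4, 0, 1, 0, -1, -1, 0, 15, -7, 1, 1, 0, -1, 3, -1, -1, -1, 0, 1, -4,
  -4, 20, 4, -1, 119, -16, 39, 45, 239, -300]

theorem g10 : GC fam v10 := GC.lin fam_lt [
    (-1, v5), (1, v6)]
    (List.forall_mem_cons.2 ⟨g5, List.forall_mem_cons.2 ⟨g6, List.forall_mem_nil _⟩⟩) v10 (by (first | (rewrite [Cfsg.Agent.KOc9088f3.e12, Cfsg.Agent.KOc9088f3.e0, Cfsg.Agent.KOc9088f3.e4, Cfsg.Agent.KOc9088f3.e8.{0}, Cfsg.Agent.KOc9088f3.e21]; decide +kernel) | decide +kernel))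

/-- a generalized character -/
def v11 : List ℤ := [
  -361, -173161, 55, 17, 17, 7, -37, -5, 1, 1, 1, -1, -1, -1, -1, -5, -1, -1, -2, -1, -1, -1, -1, -1, -1, -1,
  1, 1, -1, 5, 7, -41, 17, 23, 79, 727, 5039]

theorem g11 : GC fam v11 := GC.lin fam_lt [
    (-1, v0), (-1, v1), (1, v3), (-1, v4)]
    (List.forall_mem_cons.2 ⟨g0, List.forall_mem_cons.2 ⟨g1, List.forall_mem_cons.2 ⟨g3,
    List.forall_mem_cons.2 ⟨g4, List.forall_mem_nil _⟩⟩⟩⟩) v11 (by (first | (rewrite [Cfsg.Agent.KOc9088f3.e12, Cfsg.Agent.KOc9088f3.e0, Cfsg.Agent.KOc9088f3.e4, Cfsg.Agent.KOc9088f3.e8.{0}, Cfsg.Agent.KOc9088f3.e21]; decide +kernel) | decide +kernel))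

/-- a generalized character -/
def v12 : List ℤ := [
  -91294, 54453794, -30, -634, -3370, 90, -409, -178, 12, -23, 13, 50, 50, 13, -506, 111, -21, -22, 26, -1,
  -145, -1, 8, 0, 38, 26, 50, 50, -1954, 17, 242, -12930, 416, -1306, -406, 890, -11362]

theorem g12 : GC fam v12 := GC.lin fam_lt [
    (14, v0), (13, v1), (25, v2), (11, v3), (-11, v4), (10, v5), (-36, v6), (1, v7)]
    (List.forall_mem_cons.2 ⟨g0, List.forall_mem_cons.2 ⟨g1, List.forall_mem_cons.2 ⟨g2,
    List.forall_mem_cons.2 ⟨g3, List.forall_mem_cons.2 ⟨g4, List.forall_mem_cons.2 ⟨g5,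
    List.forall_mem_cons.2 ⟨g6, List.forall_mem_cons.2 ⟨g7, List.forall_mem_nil _⟩⟩⟩⟩⟩⟩⟩⟩) v12 (by (first | (rewrite [Cfsg.Agent.KOc9088f3.e12, Cfsg.Agent.KOc9088f3.e0, Cfsg.Agent.KOc9088f3.e4, Cfsg.Agent.KOc9088f3.e8.{0}, Cfsg.Agent.KOc9088f3.e21]; decide +kernel) | decide +kernel))

/-- a generalized character -/
def v13 : List ℤ := [
  5268, 607619220, 164, 15, 15, 2, 294, -1, -1, -1, -1, 0, 0, 0, 0, 2, 0, 0, -1, 0, 0, 0, 0, 0, -1, -2, -1,
  -1, 495, -9, -4, 7580, -33, -52, -10, -28, 600495]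

theorem g13 : GC fam v13 := gmul g1 g8 v13 (by (first | (rewrite [Cfsg.Agent.KOc9088f3.e12, Cfsg.Agent.KOc9088f3.e0, Cfsg.Agent.KOc9088f3.e4, Cfsg.Agent.KOc9088f3.e8.{0}]; decide +kernel) | decide +kernel))

/-- a generalized character -/
def v14 : List ℤ := [
  14256, 172551600, -464, -27, -27, -4, 324, 11, 1, 1, 1, 0, 0, 0, 0, 4, 0, 0, -1, 0, 0, 0, 0, 0, -1, -4, 5,
  5, -81, -3, -16, 400, 81, 80, -100, -784, -288225]

theorem g14 : GC fam v14 := gmul g1 g9 v14 (by (first | (rewrite [Cfsg.Agent.KOc9088f3.e12, Cfsg.Agent.KOc9088f3.e0, Cfsg.Agent.KOc9088f3.e4, Cfsg.Agent.KOc9088f3.e8.{0}]; decide +kernel) | decide +kernel))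

/-- a generalized character -/
def v15 : List ℤ := [
  19572, 1492182900, 132, -60, -396, 2, -450, -4, 0, -1, 0, 0, 0, 0, 0, -14, 0, 0, 0, 0, 0, 0, 0, 0, 0, 2,
  -4, -4, 180, 12, -4, 2380, -48, 156, 450, 6692, -31500]

theorem g15 : GC fam v15 := gmul g1 g10 v15 (by (first | (rewrite [Cfsg.Agent.KOc9088f3.e12, Cfsg.Agent.KOc9088f3.e0, Cfsg.Agent.KOc9088f3.e4, Cfsg.Agent.KOc9088f3.e8.{0}]; decide +kernel) | decide +kernel))

/-- a generalized character -/
def v16 : List ℤ := [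
  -4332, -135065580, -220, -51, -51, -14, -222, -5, -1, -1, -1, 0, 0, 0, 0, -10, 0, 0, -2, 0, 0, 0, 0, 0, -1,
  -2, 1, 1, -9, 15, 28, -820, 51, 92, 790, 20356, 529095]

theorem g16 : GC fam v16 := gmul g1 g11 v16 (by decide +kernel)

/-- a generalized character -/
def v17 : List ℤ := [
  -1095528, 42473959320, 120, 1902, 10110, -180, -2454, -178, -12, 23, -13, 0, 0, 0, 0, 222, 0, 0, 26, 0, 0,
  0, 0, 0, 38, 52, 50, 50, -17586, 51, 968, -258600, 1248, -5224, -4060, 24920, -1193010]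

theorem g17 : GC fam v17 := gmul g1 g12 v17 (by (first | (rewrite [Cfsg.Agent.KOc9088f3.e12, Cfsg.Agent.KOc9088f3.e0, Cfsg.Agent.KOc9088f3.e4, Cfsg.Agent.KOc9088f3.e8.{0}]; decide +kernel) | decide +kernel))

/-- a generalized character -/
def v19 : List ℤ := [
  48708, 221441220, 1044, 18, 18, 2, 594, 44, 0, 0, 0, 0, 0, 0, 0, 6, 0, 0, -1, 0, 0, 0, 0, 0, 0, -2, -10,
  -10, -72, 0, -4, 420, -108, -60, -10, -28, -153720]

theorem g19 : GC fam v19 := gmul g2 g9 v19 (by (first | (rewrite [Cfsg.Agent.KOc9088f3.e12, Cfsg.Agent.KOc9088f3.e0, Cfsg.Agent.KOc9088f3.e4, Cfsg.Agent.KOc9088f3.e8.{0}]; decide +kernel) | decide +kernel))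

/-- a generalized character -/
def v20 : List ℤ := [
  66871, 1914968055, -297, 40, 264, -1, -825, -16, 0, 0, 0, -1, -1, 0, 15, -21, 0, 0, 0, 1, -3, 1, 1, 1, 0,
  1, 8, 8, 160, 0, -1, 2499, 64, -117, 45, 239, -16800]

theorem g20 : GC fam v20 := gmul g2 g10 v20 (by decide +kernel)

/-- a generalized character -/
def v22 : List ℤ := [
  -3743054, 54508247794, -270, -1268, -6740, 90, -4499, -712, 0, 0, 0, 50, 50, 13, -506, 333, 0, 0, 26, 1,
  145, 1, -8, 0, 0, 26, -100, -100, -15632, 0, 242, -271530, -1664, 3918, -406, 890, -636272]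

theorem g22 : GC fam v22 := gmul g2 g12 v22 (by decide +kernel)

/-- a generalized character -/
def v23 : List ℤ := [
  -318, 303810, 2, 6, 6, 1, 15, -4, 2, 1, -1, 2, 0, 0, 0, -1, 0, 0, 0, -1, 0, 0, -10, -2, -4, -3, 2, 0, -12,
  3, -6, -190, 6, 2, 45, 386, 5460]

theorem g23 : GC fam v23 := galt g1 v23 (by (first | (rewrite [Cfsg.Agent.KOc9088f3.e12, Cfsg.Agent.KOc9088f3.e0, Cfsg.Agent.KOc9088f3.e4, Cfsg.Agent.KOc9088f3.e8.{0}]; decide +kernel) | decide +kernel))

/-- a generalized character -/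
def v25 : List ℤ := [
  12, 780, -4, 12, 780, -2, 780, 28, -4, -1, -1, 0, 0, 0, 0, 20, 0, 3, 10, 0, -3, 3, 0, 0, 4, 2, 28, 4, 12,
  3, 4, 20, 12, 4, 10, 28, 780]

theorem g25 : GC fam v25 := gpsi3 g1 v25 (by decide +kernel)

/-- a generalized character -/
def v26 : List ℤ := [
  6336, 57220800, 0, -12, -84, 0, 96, 12, 0, -1, 0, 0, 0, 0, 0, 0, 0, 0, 1, 0, 0, 0, 0, 0, 0, -4, 0, 0, 84,
  0, 0, 0, 0, 0, 100, 960, 25620]

theorem g26 : GC fam v26 := gadj2 g1 v26 (by (first | (rewrite [Cfsg.Agent.KOc9088f3.e12, Cfsg.Agent.KOc9088f3.e0, Cfsg.Agent.KOc9088f3.e4, Cfsg.Agent.KOc9088f3.e8.{0}, Cfsg.Agent.KOc9088f3.e14.{0}, Cfsg.Agent.KOc9088f3.e15.{0, 0}, Cfsg.Agent.KOc9088f3.e16.{1}, Cfsg.Agent.KOc9088f3.e17, Cfsg.Agent.KOc9088f3.e18]; decide +kernel) | decide +kernel))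

/-- a generalized character -/
def v27 : List ℤ := [
  972, 796636620, -132, 0, 0, -2, 0, 0, 0, -1, -1, 0, 0, 0, 0, 0, 0, 0, 0, 0, 0, 0, 0, 0, 0, 2, 0, 0, 0, 3,
  12, 4500, 0, 36, 90, 828, 0]

theorem g27 : GC fam v27 := gadj3 g1 v27 (by (first | (rewrite [Cfsg.Agent.KOc9088f3.e12, Cfsg.Agent.KOc9088f3.e0, Cfsg.Agent.KOc9088f3.e4, Cfsg.Agent.KOc9088f3.e8.{0}, Cfsg.Agent.KOc9088f3.e14.{0}, Cfsg.Agent.KOc9088f3.e15.{0, 0}, Cfsg.Agent.KOc9088f3.e16.{1}, Cfsg.Agent.KOc9088f3.e17, Cfsg.Agent.KOc9088f3.e18]; decide +kernel) | decide +kernel))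

/-- a generalized character -/
def v28 : List ℤ := [
  340, 500500, 20, 1, 1, 0, 55, 4, -1, 0, 0, -4, 0, 0, 0, -1, 0, 0, 0, -1, 1, 1, -10, 2, -4, 0, 1, 0, 4, 0,
  0, -280, 7, -16, 0, -20, 1540]

theorem g28 : GC fam v28 := galt g2 v28 (by decide +kernel)

/-- a generalized character -/
def v30 : List ℤ := [
  41, 1001, 9, 41, 1001, 1, 1001, 1, 9, 0, 0, 1, 1, 1, 1, 21, 0, 0, 1, -1, 2, -4, -1, -1, -3, 1, 1, 1, 41, 0,
  1, 21, 41, -3, 1, 1, 1001]

theorem g30 : GC fam v30 := gpsi3 g2 v30 (by decide +kernel)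

/-- a generalized character -/
def v31 : List ℤ := [
  3312, 63919856, 48, -12, -52, 0, 146, -24, 0, 0, 0, 0, 0, 1, 16, -2, 0, 0, 1, 0, -4, 0, 0, 0, 0, 2, 0, 0,
  48, 0, 0, -560, 0, -48, 46, 240, 22736]

theorem g31 : GC fam v31 := gadj2 g2 v31 (by (first | (rewrite [Cfsg.Agent.KOc9088f3.e12, Cfsg.Agent.KOc9088f3.e0, Cfsg.Agent.KOc9088f3.e4, Cfsg.Agent.KOc9088f3.e8.{0}, Cfsg.Agent.KOc9088f3.e14.{0}, Cfsg.Agent.KOc9088f3.e15.{0, 0}, Cfsg.Agent.KOc9088f3.e16.{1}, Cfsg.Agent.KOc9088f3.e17, Cfsg.Agent.KOc9088f3.e18]; decide +kernel) | decide +kernel))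

/-- a generalized character -/
def v32 : List ℤ := [
  2601, 1550349801, 9, 0, -1296, 1, 0, 0, 0, 0, 0, 1, 1, 0, 21, 0, 0, 0, 0, 0, 0, 0, -9, -1, 0, 1, 0, 0, 0,
  0, -15, 6741, -72, -3, 81, -639, 0]

theorem g32 : GC fam v32 := gadj3 g2 v32 (by (first | (rewrite [Cfsg.Agent.KOc9088f3.e12, Cfsg.Agent.KOc9088f3.e0, Cfsg.Agent.KOc9088f3.e4, Cfsg.Agent.KOc9088f3.e8.{0}, Cfsg.Agent.KOc9088f3.e14.{0}, Cfsg.Agent.KOc9088f3.e15.{0, 0}, Cfsg.Agent.KOc9088f3.e16.{1}, Cfsg.Agent.KOc9088f3.e17, Cfsg.Agent.KOc9088f3.e18]; decide +kernel) | decide +kernel))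

/-- a generalized character -/
def v33 : List ℤ := [
  -293139, 303419331501, 621, 15, 15, 1, 1176, -27, 3, 0, 2, 21, 1, 1, 1, -24, 0, 0, 1, 0, 0, 0, -189, 7,
  -27, 1, 3, 1, -1347, 6, 1, -317679, 63, -135, 1, -219, 16350621]

theorem g33 : GC fam v33 := galt g8 v33 (by (first | (rewrite [Cfsg.Agent.KOc9088f3.e12, Cfsg.Agent.KOc9088f3.e0, Cfsg.Agent.KOc9088f3.e4, Cfsg.Agent.KOc9088f3.e8.{0}]; decide +kernel) | decide +kernel))

/-- a generalized character -/
def v34 : List ℤ := [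
  778999, 778999, 439, -5, -5, -1, 49, 55, -5, 1, -3, -41, -1, -1, -1, 49, 0, 0, -1, 1, 1, 1, 379, -13, 55,
  -1, -5, -1, 5719, -3, -1, 778999, -5, 439, -1, 439, 5719]

theorem g34 : GC fam v34 := gpsi2 g8 v34 (by (first | (rewrite [Cfsg.Agent.KOc9088f3.e12, Cfsg.Agent.KOc9088f3.e0, Cfsg.Agent.KOc9088f3.e4, Cfsg.Agent.KOc9088f3.e8.{0}]; decide +kernel) | decide +kernel))

/-- a generalized character -/
def v35 : List ℤ := [
  439, 778999, -41, 439, 778999, -1, 778999, -1, -41, 1, 1, -1, -1, -1, -1, 379, 0, -3, -1, 1, -5, -11, 1, 1,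
  -13, -1, -1, -1, 439, -3, -1, 379, 439, -13, -1, -1, 778999]

theorem g35 : GC fam v35 := gpsi3 g8 v35 (by (first | (rewrite [Cfsg.Agent.KOc9088f3.e12, Cfsg.Agent.KOc9088f3.e0, Cfsg.Agent.KOc9088f3.e4, Cfsg.Agent.KOc9088f3.e8.{0}]; decide +kernel) | decide +kernel))

/-- a generalized character -/
def v36 : List ℤ := [
  -72432, 1113692944, -48, 12, -1004, 0, 94, -12, 0, 1, 0, 0, 0, -1, -16, 2, 0, 0, -1, 0, 4, 0, 0, 0, 0, -2,
  0, 0, -84, 0, 0, 560, 0, 48, -46, -240, 161644]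

theorem g36 : GC fam v36 := gadj2 g8 v36 (by (first | (rewrite [Cfsg.Agent.KOc9088f3.e12, Cfsg.Agent.KOc9088f3.e0, Cfsg.Agent.KOc9088f3.e4, Cfsg.Agent.KOc9088f3.e8.{0}, Cfsg.Agent.KOc9088f3.e14.{0}, Cfsg.Agent.KOc9088f3.e15.{0, 0}, Cfsg.Agent.KOc9088f3.e16.{1}, Cfsg.Agent.KOc9088f3.e17, Cfsg.Agent.KOc9088f3.e18]; decide +kernel) | decide +kernel))

/-- a generalized character -/
def v37 : List ℤ := [
  -41481, 6978950199, 87, 0, 1296, -1, 0, 0, 0, 1, 1, -1, -1, 0, -21, 0, 0, 0, 0, 0, 0, 0, 9, 1, 0, -1, 0, 0,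
  0, -3, -9, 2619, 72, -45, -81, -801, 0]

theorem g37 : GC fam v37 := gadj3 g8 v37 (by (first | (rewrite [Cfsg.Agent.KOc9088f3.e12, Cfsg.Agent.KOc9088f3.e0, Cfsg.Agent.KOc9088f3.e4, Cfsg.Agent.KOc9088f3.e8.{0}, Cfsg.Agent.KOc9088f3.e14.{0}, Cfsg.Agent.KOc9088f3.e15.{0, 0}, Cfsg.Agent.KOc9088f3.e16.{1}, Cfsg.Agent.KOc9088f3.e17, Cfsg.Agent.KOc9088f3.e18]; decide +kernel) | decide +kernel))

/-- a generalized character -/
def v38 : List ℤ := [
  595062, 24469033590, 6134, 36, 36, 3, 1431, 65, -4, 1, 1, -58, 0, 0, 0, -25, 1, 1, 1, -1, 0, 0, -10, -10,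
  5, 7, 8, 7, 1413, 1, 22, -110410, 360, -394, 55, -202, 3768885]

theorem g38 : GC fam v38 := galt g9 v38 (by (first | (rewrite [Cfsg.Agent.KOc9088f3.e12, Cfsg.Agent.KOc9088f3.e0, Cfsg.Agent.KOc9088f3.e4, Cfsg.Agent.KOc9088f3.e8.{0}]; decide +kernel) | decide +kernel))

/-- a generalized character -/
def v39 : List ℤ := [
  221220, 221220, 1188, 9, 9, -2, 54, -9, 9, -1, -1, 116, 0, 0, 0, 54, -1, -1, -1, 2, 0, 0, 20, 20, -9, -10,
  9, 11, -2745, -1, -28, 221220, 9, 1188, -10, 1188, -2745]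

theorem g39 : GC fam v39 := gpsi2 g9 v39 (by decide +kernel)

/-- a generalized character -/
def v40 : List ℤ := [
  1188, 221220, 116, 1188, 221220, 2, 221220, -28, 116, -1, -1, 0, 0, 0, 0, 20, -1, -1, -10, 0, 9, 27, 0, 0,
  20, -2, -28, -4, 1188, -1, -4, 20, 1188, 20, -10, -28, 221220]

theorem g40 : GC fam v40 := gpsi3 g9 v40 (by decide +kernel)

/-- a generalized character -/
def v41 : List ℤ := [
  166464, 216360000, 0, 12, 2196, 0, 144, 60, 0, -1, 0, 0, 0, 0, 0, 0, -1, -1, -1, 0, 0, 0, 0, 0, 0, 4, 0, 0,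
  60, -4, 0, 0, 0, 0, -100, -960, -28260]

theorem g41 : GC fam v41 := gadj2 g9 v41 (by (first | (rewrite [Cfsg.Agent.KOc9088f3.e12, Cfsg.Agent.KOc9088f3.e0, Cfsg.Agent.KOc9088f3.e4, Cfsg.Agent.KOc9088f3.e8.{0}, Cfsg.Agent.KOc9088f3.e14.{0}, Cfsg.Agent.KOc9088f3.e15.{0, 0}, Cfsg.Agent.KOc9088f3.e16.{1}, Cfsg.Agent.KOc9088f3.e17, Cfsg.Agent.KOc9088f3.e18]; decide +kernel) | decide +kernel))

/-- a generalized character -/
def v42 : List ℤ := [
  199908, 7462350180, -12, 0, 0, 2, 0, 0, 0, -1, -1, 0, 0, 0, 0, 0, -1, 0, 0, 0, 0, 0, 0, 0, 0, -2, 0, 0, 0,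
  -9, 36, 4500, 0, -12, -90, 4932, 0]

theorem g42 : GC fam v42 := gadj3 g9 v42 (by (first | (rewrite [Cfsg.Agent.KOc9088f3.e12, Cfsg.Agent.KOc9088f3.e0, Cfsg.Agent.KOc9088f3.e4, Cfsg.Agent.KOc9088f3.e8.{0}, Cfsg.Agent.KOc9088f3.e14.{0}, Cfsg.Agent.KOc9088f3.e15.{0, 0}, Cfsg.Agent.KOc9088f3.e16.{1}, Cfsg.Agent.KOc9088f3.e17, Cfsg.Agent.KOc9088f3.e18]; decide +kernel) | decide +kernel))

/-- a generalized character -/
def v43 : List ℤ := [
  373553, 1829888759985, -271, 134, 8646, 0, 2850, -2, -10, 0, -2, 17, -7, 0, 105, 62, 0, 0, 0, 4, 3, -1,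
  -59, -19, -10, -22, -2, 10, 350, 6, -119, -949447, 62, -55, 990, 27745, 45150]

theorem g43 : GC fam v43 := galt g10 v43 (by (first | (rewrite [Cfsg.Agent.KOc9088f3.e12, Cfsg.Agent.KOc9088f3.e0, Cfsg.Agent.KOc9088f3.e4, Cfsg.Agent.KOc9088f3.e8.{0}]; decide +kernel) | decide +kernel))

/-- a generalized character -/
def v44 : List ℤ := [
  1913055, 1913055, 1631, 132, 132, 1, -75, 20, 20, 1, 4, -33, 15, 0, 15, -75, 1, 1, 0, -7, 3, 3, 119, 39,
  20, 45, 20, -4, -300, 4, 239, 1913055, 132, 1631, 45, 1631, -300]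

theorem g44 : GC fam v44 := gpsi2 g10 v44 (by (first | (rewrite [Cfsg.Agent.KOc9088f3.e12, Cfsg.Agent.KOc9088f3.e0, Cfsg.Agent.KOc9088f3.e4, Cfsg.Agent.KOc9088f3.e8.{0}]; decide +kernel) | decide +kernel))

/-- a generalized character -/
def v45 : List ℤ := [
  1631, 1913055, -33, 1631, 1913055, -1, 1913055, 239, -33, 1, 0, -1, -1, 15, 15, 119, 1, 4, 45, -1, 132,
  -16, -1, -1, 39, 1, 239, -1, 1631, 4, -1, 119, 1631, 39, 45, 239, 1913055]

theorem g45 : GC fam v45 := gpsi3 g10 v45 (by (first | (rewrite [Cfsg.Agent.KOc9088f3.e12, Cfsg.Agent.KOc9088f3.e0, Cfsg.Agent.KOc9088f3.e4, Cfsg.Agent.KOc9088f3.e8.{0}]; decide +kernel) | decide +kernel))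

/-- a generalized character -/
def v46 : List ℤ := [
  65808, 553128720, -48, -24, 888, 0, -390, -48, 0, 1, 0, 0, 0, 0, 0, -2, 1, 1, 0, 0, 0, 0, 0, 0, 0, -2, 0,
  0, -48, 4, 0, -560, 0, -48, 90, -240, 56400]

theorem g46 : GC fam v46 := gadj2 g10 v46 (by (first | (rewrite [Cfsg.Agent.KOc9088f3.e12, Cfsg.Agent.KOc9088f3.e0, Cfsg.Agent.KOc9088f3.e4, Cfsg.Agent.KOc9088f3.e8.{0}, Cfsg.Agent.KOc9088f3.e14.{0}, Cfsg.Agent.KOc9088f3.e15.{0, 0}, Cfsg.Agent.KOc9088f3.e16.{1}, Cfsg.Agent.KOc9088f3.e17, Cfsg.Agent.KOc9088f3.e18]; decide +kernel) | decide +kernel))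

/-- a generalized character -/
def v47 : List ℤ := [
  92511, -8698893345, -33, 0, 3888, -1, 0, 0, 0, 1, 0, -1, -1, 0, 15, 0, 1, 0, 0, 0, 0, 0, -9, -1, 0, 1, 0,
  0, 0, 12, -33, -15561, -72, 39, 45, -2961, 0]

theorem g47 : GC fam v47 := gadj3 g10 v47 (by (first | (rewrite [Cfsg.Agent.KOc9088f3.e12, Cfsg.Agent.KOc9088f3.e0, Cfsg.Agent.KOc9088f3.e4, Cfsg.Agent.KOc9088f3.e8.{0}, Cfsg.Agent.KOc9088f3.e14.{0}, Cfsg.Agent.KOc9088f3.e15.{0, 0}, Cfsg.Agent.KOc9088f3.e16.{1}, Cfsg.Agent.KOc9088f3.e17, Cfsg.Agent.KOc9088f3.e18]; decide +kernel) | decide +kernel))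

/-- a generalized character -/
def v53 : List ℤ := [
  4140070321, 1482607813270321, 46097, 202663, 5680135, 4037, 83845, 16819, 389, 276, 76, 1265, 1503, 78,
  128271, 6365, 231, 253, 325, -55, 10585, 73, 6497, 653, 1699, 541, 1567, 1339, 1914739, 136, 28837,
  56365553, 88213, 898465, 82621, 441697, 64553203]

theorem g53 : GC fam v53 := galt g12 v53 (by (first | (rewrite [Cfsg.Agent.KOc9088f3.e12, Cfsg.Agent.KOc9088f3.e0, Cfsg.Agent.KOc9088f3.e4, Cfsg.Agent.KOc9088f3.e8.{0}]; decide +kernel) | decide +kernel))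

/-- a generalized character -/
def v58 : List ℤ := [
  -576, 133056, 0, 6, 54, -1, 0, 4, 0, 0, 0, 0, 0, -1, -4, 0, 1, 0, 0, 0, 0, 0, 0, 0, 0, -1, -2, 0, 12, 0, 0,
  0, 0, 0, -9, 64, -756]

theorem g58 : GC fam v58 := GC.lin fam_lt [
    (136352274452626973540450116833743348229917, v0), (29592075612024253203613647439477013967699263, v1),
    (9383861039610117746764875904865456042663025, v2), (19888971185850903499208692305212573180611302, v3),
    (7788820566490165992187474543933189661667829, v4), (-19484842856149084457385912590449112037375678, v5),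
    (721170877752973521007691838414305935880850, v6), (1427869976557529491552004299468756700140326, v7),
    (22841516672904279098925437099923854847100682, v13), (31724711154778057234087003678574662577386506, v14),
    (4000680932685791211221866342068666804830592, v15), (-1476863115546269582446099546279858524189588, v16),
    (93071686178824006284199695442420772856883, v17), (19976358018246439398298284688700767155480328, v19),
    (27177759622694239748089026055297207322099530, v20), (757852574234808961143165223771428909543071, v22),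
    (-72225142682531272124514481793163176615343, v23), (197788675165347421957037144667305616908407, v25),
    (643817954967603249846708441633408500055220, v26), (3657420146612636007480005997557824935944633, v27),
    (-682071808797336092678617901427954415300028, v28), (-117704392165772668327845993970707803513167, v30),
    (1910824778534900791077149708021413229027916, v31), (1685502127577914578182889673495486831382894, v32),
    (22416546293571058175013575930704523865759, v33), (-60365067232321136302138787834397276044019, v34),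
    (26924057044815873213174362210247078111828, v35), (2243671961924378633738946120909961108467514, v36),
    (3564099947017385634240846726592654880723156, v37), (-123335874204043703887751127993191160284040, v38),
    (-114285796416661078934659754230357776751341, v39), (23358005244884426505838529997917298155372, v40),
    (-95831931674074811877946427697952803824732, v41), (958062278524930063132933706775295080421294, v42),
    (-93290643812290285496188061119675105923962, v43), (-60330761812595182099754455414023844204390, v44),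
    (-14262052109665072604172584892571210153543, v45), (-1316161884957747428682302031572118337818350, v46),
    (366210055, v47), (-1, v53)]
    (List.forall_mem_cons.2 ⟨g0, List.forall_mem_cons.2 ⟨g1, List.forall_mem_cons.2 ⟨g2,
    List.forall_mem_cons.2 ⟨g3, List.forall_mem_cons.2 ⟨g4, List.forall_mem_cons.2 ⟨g5,
    List.forall_mem_cons.2 ⟨g6, List.forall_mem_cons.2 ⟨g7, List.forall_mem_cons.2 ⟨g13,
    List.forall_mem_cons.2 ⟨g14, List.forall_mem_cons.2 ⟨g15, List.forall_mem_cons.2 ⟨g16,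
    List.forall_mem_cons.2 ⟨g17, List.forall_mem_cons.2 ⟨g19, List.forall_mem_cons.2 ⟨g20,
    List.forall_mem_cons.2 ⟨g22, List.forall_mem_cons.2 ⟨g23, List.forall_mem_cons.2 ⟨g25,
    List.forall_mem_cons.2 ⟨g26, List.forall_mem_cons.2 ⟨g27, List.forall_mem_cons.2 ⟨g28,
    List.forall_mem_cons.2 ⟨g30, List.forall_mem_cons.2 ⟨g31, List.forall_mem_cons.2 ⟨g32,
    List.forall_mem_cons.2 ⟨g33, List.forall_mem_cons.2 ⟨g34, List.forall_mem_cons.2 ⟨g35,
    List.forall_mem_cons.2 ⟨g36, List.forall_mem_cons.2 ⟨g37, List.forall_mem_cons.2 ⟨g38,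
    List.forall_mem_cons.2 ⟨g39, List.forall_mem_cons.2 ⟨g40, List.forall_mem_cons.2 ⟨g41,
    List.forall_mem_cons.2 ⟨g42, List.forall_mem_cons.2 ⟨g43, List.forall_mem_cons.2 ⟨g44,
    List.forall_mem_cons.2 ⟨g45, List.forall_mem_cons.2 ⟨g46, List.forall_mem_cons.2 ⟨g47,
    List.forall_mem_cons.2 ⟨g53, List.forall_mem_nil _⟩⟩⟩⟩⟩⟩⟩⟩⟩⟩⟩⟩⟩⟩⟩⟩⟩⟩⟩⟩⟩⟩⟩⟩⟩⟩⟩⟩⟩⟩⟩⟩⟩⟩⟩⟩⟩⟩⟩⟩) v58 (by (first | (rewrite [Cfsg.Agent.KOc9088f3.e12, Cfsg.Agent.KOc9088f3.e0, Cfsg.Agent.KOc9088f3.e4, Cfsg.Agent.KOc9088f3.e8.{0}, Cfsg.Agent.KOc9088f3.e21]; decide +kernel) | decide +kernel))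

/-- a generalized character -/
def v59 : List ℤ := [
  -6912, 103783680, 0, -18, -162, 2, 0, 4, 0, 0, 0, 0, 0, 0, 0, 0, 0, 0, 0, 0, 0, 0, 0, 0, 0, -2, -2, 0, 108,
  0, 0, 0, 0, 0, -90, 1792, -79380]

theorem g59 : GC fam v59 := gmul g1 g58 v59 (by decide +kernel)

/-- the character of degree 243243 -/
def w243243 : List ℤ := [
  -405, 243243, 27, 0, 0, 0, 9, 0, 0, 0, 0, -1, -1, 0, 3, 1, 0, 0, -1, 1, 0, 0, 1, 1, 0, 0, 0, 0, 0, 0, 3,
  -161, 0, -9, 8, -45, 0]

theorem gc243243 : GC fam w243243 := GC.lin fam_lt [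
    (-744309500351533446631704383547893, v0), (-161534987968264302638381126508682506, v1),
    (-51223912104136258412570222609086654, v2), (-108568414170384418531500833406561518, v3),
    (-42517025604777889660012662240294817, v4), (106362388958368121762865201564403734, v5),
    (-3936673134666958927572315322625679, v6), (-7794348815118096500451678881279984, v7),
    (-124685546539873350639707029717016791, v13), (-173176457842024984819966931020432513, v14),
    (-21838614999472042960894148320079352, v15), (8061788862948261696233273476227849, v16),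
    (-508052693031557834420176572487707, v17), (-109045434812824984736956710885726276, v19),
    (-148355902141329500368881197665555720, v20), (-4136908409729622364886304600917485, v22),
    (394257155435498202021784978577859, v23), (-1079673885738216352272774674346209, v25),
    (-3514424840384835507518914451816399, v26), (-19964848938744169077754965886430451, v27),
    (3723242089270708339234599485988905, v28), (642515848553190968828900606110432, v30),
    (-10430666022111525379212444851788329, v31), (-9200691748305443900616330510094073, v32),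
    (-122365750321031346144316441521977, v33), (329516271076107732763561951346756, v34),
    (-146971009665303003678864990003754, v35), (-12247587094800419365815090189869433, v36),
    (-19455439679439305502455252237983995, v37), (673256557492376505118539260318875, v38),
    (623854676202823175710102004532486, v39), (-127504915358553251486292481539319, v40),
    (523120112725620124304588737388925, v41), (-5229798026451650632115643432544069, v42),
    (509247922428483384881309239313065, v43), (329329007241176648673423797909948, v44),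
    (77852613184098059148564534763816, v45), (7184565119337177078127925822298942, v46), (-2, v47)]
    (List.forall_mem_cons.2 ⟨g0, List.forall_mem_cons.2 ⟨g1, List.forall_mem_cons.2 ⟨g2,
    List.forall_mem_cons.2 ⟨g3, List.forall_mem_cons.2 ⟨g4, List.forall_mem_cons.2 ⟨g5,
    List.forall_mem_cons.2 ⟨g6, List.forall_mem_cons.2 ⟨g7, List.forall_mem_cons.2 ⟨g13,
    List.forall_mem_cons.2 ⟨g14, List.forall_mem_cons.2 ⟨g15, List.forall_mem_cons.2 ⟨g16,
    List.forall_mem_cons.2 ⟨g17, List.forall_mem_cons.2 ⟨g19, List.forall_mem_cons.2 ⟨g20,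
    List.forall_mem_cons.2 ⟨g22, List.forall_mem_cons.2 ⟨g23, List.forall_mem_cons.2 ⟨g25,
    List.forall_mem_cons.2 ⟨g26, List.forall_mem_cons.2 ⟨g27, List.forall_mem_cons.2 ⟨g28,
    List.forall_mem_cons.2 ⟨g30, List.forall_mem_cons.2 ⟨g31, List.forall_mem_cons.2 ⟨g32,
    List.forall_mem_cons.2 ⟨g33, List.forall_mem_cons.2 ⟨g34, List.forall_mem_cons.2 ⟨g35,
    List.forall_mem_cons.2 ⟨g36, List.forall_mem_cons.2 ⟨g37, List.forall_mem_cons.2 ⟨g38,
    List.forall_mem_cons.2 ⟨g39, List.forall_mem_cons.2 ⟨g40, List.forall_mem_cons.2 ⟨g41,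
    List.forall_mem_cons.2 ⟨g42, List.forall_mem_cons.2 ⟨g43, List.forall_mem_cons.2 ⟨g44,
    List.forall_mem_cons.2 ⟨g45, List.forall_mem_cons.2 ⟨g46, List.forall_mem_cons.2 ⟨g47, List.forall_mem_nil _⟩⟩⟩⟩⟩⟩⟩⟩⟩⟩⟩⟩⟩⟩⟩⟩⟩⟩⟩⟩⟩⟩⟩⟩⟩⟩⟩⟩⟩⟩⟩⟩⟩⟩⟩⟩⟩⟩⟩) w243243 (by (first | (rewrite [Cfsg.Agent.KOc9088f3.e12, Cfsg.Agent.KOc9088f3.e0, Cfsg.Agent.KOc9088f3.e4, Cfsg.Agent.KOc9088f3.e8.{0}, Cfsg.Agent.KOc9088f3.e21]; decide +kernel) | decide +kernel))

/-- **the character of degree 243243** -/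
theorem irr243243 : ∃ θ : Suz → ℂ, IsIrrCharacter Suz θ ∧ θ 1 = (243243 : ℕ) ∧ ∀ (α : MulAut Suz) g, θ (α g) = θ g :=
  girr gc243243 rfl (by decide +kernel) (by decide +kernel)

/-- the character of degree 197120 -/
def w197120 : List ℤ := [
  512, 197120, 0, -4, 20, 0, -16, 0, 0, 0, 0, 0, 0, 0, 0, 0, 1, 0, -1, 0, -1, -1, 0, 0, 0, 2, 0, 0, -16, 0,
  0, 0, 8, 0, -10, 0, 560]

theorem gc197120 : GC fam w197120 := GC.lin fam_lt [
    (1227170479009092838782577016366174271988112, v0), (266328682447448961746493404385928433298537775, v1),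
    (84454749971435124165578915219137450192302459, v2), (179000741976024062320722184115378137362313015, v3),
    (70099385608829216034712977296980492856249904, v4), (-175363586982224315223484053353528674646425343, v5),
    (6490537947036599494914186474749016410938633, v6), (12850829882589075056161866812379618093583566, v7),
    (205573651552990931339692525034249457544367784, v13),
    (285522402471989271038511218519207239024983996, v14),
    (36006128656345120150185425073570014405724230, v15),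
    (-13291768136698358867501839995585095483937967, v16), (837645181708598551048907567410929618678249, v17),
    (179787223473310527534084367976641662508399032, v19),
    (244599838385263658104586731820209572024445874, v20), (6820673217776946840851702101260865809869822, v22),
    (-650026288875846294051362858541981461645341, v23), (1780098089449632865734278905010848918003309, v25),
    (5794361636899168041433850676532199699478801, v26), (32916781559192125190929738705969629899847178, v27),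
    (-6138646323873618774864121243701840850270710, v28), (-1059339537205369315527133197852705120052440, v30),
    (17197423132034456269569155872147619488502723, v31), (15169519258655715193533386418566820636550339, v32),
    (201748918111142744146469075956433221796639, v33), (-543285609046739491497274047777370935439818, v34),
    (242316515167732698089482846080856988335364, v35), (20193047804351929788366488651876241076476596, v36),
    (32076899756719403732701771509000984997397975, v37), (-1110022875918851446286073424888181554558452, v38),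
    (-1028572175239337272749551686938413713865650, v39), (210222048734658835690139262658283819704945, v40),
    (-862487391346740468860510255831280573035857, v41), (8622560569508197935246188030227014044067572, v42),
    (-839615800424143816191793311995368228805867, v43), (-542976860266957797683014038360070745917629, v44),
    (-128358469921607794006236464879122814532375, v45), (-11845457050870571322557041025251833380519284, v46),
    (3295890519, v47), (-9, v53), (-1, v59)]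
    (List.forall_mem_cons.2 ⟨g0, List.forall_mem_cons.2 ⟨g1, List.forall_mem_cons.2 ⟨g2,
    List.forall_mem_cons.2 ⟨g3, List.forall_mem_cons.2 ⟨g4, List.forall_mem_cons.2 ⟨g5,
    List.forall_mem_cons.2 ⟨g6, List.forall_mem_cons.2 ⟨g7, List.forall_mem_cons.2 ⟨g13,
    List.forall_mem_cons.2 ⟨g14, List.forall_mem_cons.2 ⟨g15, List.forall_mem_cons.2 ⟨g16,
    List.forall_mem_cons.2 ⟨g17, List.forall_mem_cons.2 ⟨g19, List.forall_mem_cons.2 ⟨g20,
    List.forall_mem_cons.2 ⟨g22, List.forall_mem_cons.2 ⟨g23, List.forall_mem_cons.2 ⟨g25,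
    List.forall_mem_cons.2 ⟨g26, List.forall_mem_cons.2 ⟨g27, List.forall_mem_cons.2 ⟨g28,
    List.forall_mem_cons.2 ⟨g30, List.forall_mem_cons.2 ⟨g31, List.forall_mem_cons.2 ⟨g32,
    List.forall_mem_cons.2 ⟨g33, List.forall_mem_cons.2 ⟨g34, List.forall_mem_cons.2 ⟨g35,
    List.forall_mem_cons.2 ⟨g36, List.forall_mem_cons.2 ⟨g37, List.forall_mem_cons.2 ⟨g38,
    List.forall_mem_cons.2 ⟨g39, List.forall_mem_cons.2 ⟨g40, List.forall_mem_cons.2 ⟨g41,
    List.forall_mem_cons.2 ⟨g42, List.forall_mem_cons.2 ⟨g43, List.forall_mem_cons.2 ⟨g44,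
    List.forall_mem_cons.2 ⟨g45, List.forall_mem_cons.2 ⟨g46, List.forall_mem_cons.2 ⟨g47,
    List.forall_mem_cons.2 ⟨g53, List.forall_mem_cons.2 ⟨g59, List.forall_mem_nil _⟩⟩⟩⟩⟩⟩⟩⟩⟩⟩⟩⟩⟩⟩⟩⟩⟩⟩⟩⟩⟩⟩⟩⟩⟩⟩⟩⟩⟩⟩⟩⟩⟩⟩⟩⟩⟩⟩⟩⟩⟩) w197120 (by (first | (rewrite [Cfsg.Agent.KOc9088f3.e12, Cfsg.Agent.KOc9088f3.e0, Cfsg.Agent.KOc9088f3.e4, Cfsg.Agent.KOc9088f3.e8.{0}, Cfsg.Agent.KOc9088f3.e21]; decide +kernel) | decide +kernel))

/-- **the character of degree 197120** -/
theorem irr197120 : ∃ θ : Suz → ℂ, IsIrrCharacter Suz θ ∧ θ 1 = (197120 : ℕ) ∧ ∀ (α : MulAut Suz) g, θ (α g) = θ g :=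
  girr gc197120 rfl (by decide +kernel) (by decide +kernel)

end Cfsg.Agent.H714.S8.SuzFam
end

-- part: TID/Suz/Chars
section
set_option linter.all false
open scoped Cfsg.Agent.FastGrp

/-!
# S4622, row `Suz`: the invariant characters of the 3-block of defect two (helper31)

Irreducible characters of degree 15795, 88452, 243243, 248832, 780, 197120 given by tables on helper714's families.
-/

set_option autoImplicit false
set_option maxRecDepth 100000

namespace Cfsg.Agent.TID.Suz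

open Cfsg Cfsg.Spor Cfsg.Agent.H300.Cls Cfsg.Agent.H714.S8.SuzFam Cfsg.Agent.H714.S8.Fam
open Cfsg.Agent.SporadicRecognition.SuzOrder (card_Suz)

/-- a generalized character of degree 4785 -/
def u1 : List ℤ := [
  -15, 4785, 1, 0, -48, 0, 15, 1, -2, 0, 0, -3, -1, 1, -5, -1, 1, 1, 0, -1, 0, 0, -1, -1, -3, 0, 4, -1, -3, 4,
  -7, -91, -6, -3, 0, 25, 141]

private noncomputable def _root_.Cfsg.Agent.LsF.fe98091_0 : {f // @Cfsg.Agent.H300.Cls.chkAll = f} := ⟨_, by first | (delta Cfsg.Agent.H300.Cls.chkAll; rewrite [Cfsg.Agent.LsF.all_eq, Cfsg.Agent.LsF.range_eq]; exact rfl) | exact rfl⟩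
private noncomputable def _root_.Cfsg.Agent.LsF.fe98091_1 : {f // @Cfsg.Agent.H300.Cls.lc = f} := ⟨_, by first | (delta Cfsg.Agent.H300.Cls.lc List.brecOn List.brecOn.go Cfsg.Agent.H300.Cls.lc._f; rewrite [Cfsg.Agent.LsF.iadd_pat, Cfsg.Agent.LsF.imul_pat, Cfsg.Agent.LsF.getD_eq]; (try delta Cfsg.Agent.H300.Cls.lc.match_1); (try delta List.casesOn); first | dsimp -zeta only | exact rfl) | exact rfl⟩
theorem gu1 : GC fam u1 := GC.lin fam_lt [
    (-55638271473244779525054841640, v0), (-604531439624052234144555711202, v1),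
    (418006631843988755960796481237, v2), (-1558561181284406236549141306666, v8),
    (-1794170999026525257703819301118, v9), (-3278086615319787475088935854968, v10),
    (937225815247835820296409211372, v11), (-104301401053267934684053222342, v12),
    (-203321819498428256266997362548, v13), (-83495962171024401633682681914, v14),
    (-36843502965941393672310626851, v15), (-59612133676946494403502677867, v16),
    (278763179299753847774968119968, v19), (339204216805177355441003364213, v20),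
    (-337036524534739957114920316652, v23), (105559479515058207196984639793, v25),
    (829007200755076803551698328728, v26), (1057842613449277187532928261018, v27),
    (-325745054721438057146558718906, v28), (-12705809356566372449681780559, v30),
    (926092442063258119153501052750, v31), (-307734291369221455504871499817, v32),
    (-20781623081608048047267174406, v34), (14387543005578752974696847162, v35),
    (1195951185479319482071350966296, v36), (-109425044590674037068920998968, v37), (-11, v38),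
    (-8938272168621728066701225400, v39), (3580822410445568806827099512, v40),
    (454877262495557079130568873637, v41), (-273174462432354775717015954029, v42),
    (8819427531676537093952897350, v44), (-6364541339531577875004064624, v45),
    (374791620877840585767304446352, v46), (-10443303339852456789906898876, v47),
    (-743853080074740866624240491777, v58), (860277601402800465906113886568, v59),
    (-1348005646146024626605112421867, w243243), (839845507545350111423035842987, w197120)]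
    (List.forall_mem_cons.2 ⟨g0, List.forall_mem_cons.2 ⟨g1, List.forall_mem_cons.2 ⟨g2,
    List.forall_mem_cons.2 ⟨g8, List.forall_mem_cons.2 ⟨g9, List.forall_mem_cons.2 ⟨g10,
    List.forall_mem_cons.2 ⟨g11, List.forall_mem_cons.2 ⟨g12, List.forall_mem_cons.2 ⟨g13,
    List.forall_mem_cons.2 ⟨g14, List.forall_mem_cons.2 ⟨g15, List.forall_mem_cons.2 ⟨g16,
    List.forall_mem_cons.2 ⟨g19, List.forall_mem_cons.2 ⟨g20, List.forall_mem_cons.2 ⟨g23,
    List.forall_mem_cons.2 ⟨g25, List.forall_mem_cons.2 ⟨g26, List.forall_mem_cons.2 ⟨g27,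
    List.forall_mem_cons.2 ⟨g28, List.forall_mem_cons.2 ⟨g30, List.forall_mem_cons.2 ⟨g31,
    List.forall_mem_cons.2 ⟨g32, List.forall_mem_cons.2 ⟨g34, List.forall_mem_cons.2 ⟨g35,
    List.forall_mem_cons.2 ⟨g36, List.forall_mem_cons.2 ⟨g37, List.forall_mem_cons.2 ⟨g38,
    List.forall_mem_cons.2 ⟨g39, List.forall_mem_cons.2 ⟨g40, List.forall_mem_cons.2 ⟨g41,
    List.forall_mem_cons.2 ⟨g42, List.forall_mem_cons.2 ⟨g44, List.forall_mem_cons.2 ⟨g45,
    List.forall_mem_cons.2 ⟨g46, List.forall_mem_cons.2 ⟨g47, List.forall_mem_cons.2 ⟨g58,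
    List.forall_mem_cons.2 ⟨g59, List.forall_mem_cons.2 ⟨gc243243, List.forall_mem_cons.2 ⟨gc197120,
    List.forall_mem_nil _⟩⟩⟩⟩⟩⟩⟩⟩⟩⟩⟩⟩⟩⟩⟩⟩⟩⟩⟩⟩⟩⟩⟩⟩⟩⟩⟩⟩⟩⟩⟩⟩⟩⟩⟩⟩⟩⟩⟩) u1 (by ((try (rewrite [Cfsg.Agent.LsF.fe98091_0.2, Cfsg.Agent.LsF.fe98091_1.2, Cfsg.Agent.LsF.ineg_pat, Cfsg.Agent.LsF.getD_eq, Cfsg.Agent.LsF.instIDecEq_eq, Cfsg.Agent.LsF.decide_eq])); decide +kernel))

/-- its exterior square -/
def u2 : List ℤ := [
  -2280, 11445720, 8, 24, 1176, 0, 105, 2, 2, 0, -2, 4, 3, 0, 15, -7, 0, 0, 0, 1, 0, 0, 46, 2, 6, 0, 8, 0,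
  -66, 6, 12, 1748, 42, 12, 0, 320, 9870]

theorem gu2 : GC fam u2 := galt gu1 u2 (by decide +kernel)

/-- the character of degree 88452 -/
def w88452 : List ℤ := [
  324, 88452, -12, 0, 0, -1, 18, 0, 0, 1, 0, 0, 1, 0, -3, 2, 0, 0, -2, 2, 0, 0, 2, -2, 0, -1, 0, 0, 0, 0, 0,
  56, 0, 0, 7, -36, 0]

theorem gc88452 : GC fam w88452 := GC.lin fam_lt [
    (-13266449797170981451162264695663426, v0), (-144145132158547088798339213324858629, v1),
    (99669954680556554671196237515001412, v2), (-371625018531928794255612454421338069, v8),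
    (-427804079024480399577255851239476837, v9), (-781630528076897585758841128076972624, v10),
    (223473139933492225436358024019319499, v11), (-24869739195854977962888323907965969, v12),
    (-48480275170706172868821376406881018, v13), (-19908867782512775581841524647164128, v14),
    (-8785004808868413464923476575218922, v15), (-14213981811202644398608968579699627, v16), (-3, v17),
    (66468594827902575624977962552216932, v19), (80880221367023504668114802273361041, v20),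
    (-80363354470910417922491308068130314, v23), (25169716788837331984339418355609163, v25),
    (197669376116387071811634226534432272, v26), (252233140121571489770888510267018124, v27),
    (-77671004161528939801757335503696820, v28), (-3029586964116424380599939194518857, v30),
    (220818486355740523913444259668017211, v31), (-73376498212762919378313882251304086, v32),
    (-4955192748007280384168989940691649, v34), (3430581359450301774377793005339782, v35),
    (285163897833492827286446894282057221, v36), (-26091426318185586404002654914199308, v37), (-2622848, v38),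
    (-2131251310628743229917553326326497, v39), (853815179423841996229394005532140, v40),
    (108461427844209429030789285830605473, v41), (-65136015116334686131416529503560600, v42),
    (2102913866492748417882711204259253, v44), (-1517568140187782398409506624551466, v45),
    (89365720593372696228534005332799826, v46), (-2490112575503072008903180298483924, v47),
    (-177365135220421056598213783823680031, v58), (205125524363730445835871372915959066, v59),
    (-321419928358107373083968080982677898, w243243), (200253673743042163873245114703723069, w197120), (-1, u2)]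
    (List.forall_mem_cons.2 ⟨g0, List.forall_mem_cons.2 ⟨g1, List.forall_mem_cons.2 ⟨g2,
    List.forall_mem_cons.2 ⟨g8, List.forall_mem_cons.2 ⟨g9, List.forall_mem_cons.2 ⟨g10,
    List.forall_mem_cons.2 ⟨g11, List.forall_mem_cons.2 ⟨g12, List.forall_mem_cons.2 ⟨g13,
    List.forall_mem_cons.2 ⟨g14, List.forall_mem_cons.2 ⟨g15, List.forall_mem_cons.2 ⟨g16,
    List.forall_mem_cons.2 ⟨g17, List.forall_mem_cons.2 ⟨g19, List.forall_mem_cons.2 ⟨g20,
    List.forall_mem_cons.2 ⟨g23, List.forall_mem_cons.2 ⟨g25, List.forall_mem_cons.2 ⟨g26,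
    List.forall_mem_cons.2 ⟨g27, List.forall_mem_cons.2 ⟨g28, List.forall_mem_cons.2 ⟨g30,
    List.forall_mem_cons.2 ⟨g31, List.forall_mem_cons.2 ⟨g32, List.forall_mem_cons.2 ⟨g34,
    List.forall_mem_cons.2 ⟨g35, List.forall_mem_cons.2 ⟨g36, List.forall_mem_cons.2 ⟨g37,
    List.forall_mem_cons.2 ⟨g38, List.forall_mem_cons.2 ⟨g39, List.forall_mem_cons.2 ⟨g40,
    List.forall_mem_cons.2 ⟨g41, List.forall_mem_cons.2 ⟨g42, List.forall_mem_cons.2 ⟨g44,
    List.forall_mem_cons.2 ⟨g45, List.forall_mem_cons.2 ⟨g46, List.forall_mem_cons.2 ⟨g47,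
    List.forall_mem_cons.2 ⟨g58, List.forall_mem_cons.2 ⟨g59, List.forall_mem_cons.2 ⟨gc243243,
    List.forall_mem_cons.2 ⟨gc197120, List.forall_mem_cons.2 ⟨gu2,
    List.forall_mem_nil _⟩⟩⟩⟩⟩⟩⟩⟩⟩⟩⟩⟩⟩⟩⟩⟩⟩⟩⟩⟩⟩⟩⟩⟩⟩⟩⟩⟩⟩⟩⟩⟩⟩⟩⟩⟩⟩⟩⟩⟩⟩) w88452 (by ((try (rewrite [Cfsg.Agent.LsF.fe98091_0.2, Cfsg.Agent.LsF.fe98091_1.2, Cfsg.Agent.LsF.ineg_pat, Cfsg.Agent.LsF.getD_eq, Cfsg.Agent.LsF.instIDecEq_eq, Cfsg.Agent.LsF.decide_eq])); decide +kernel))

/-- the character of degree 15795 -/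
def w15795 : List ℤ := [
  243, 15795, 3, 0, 0, 2, 9, 0, 0, -1, -1, -1, 0, 0, 0, 1, 0, 0, -1, 1, 0, 0, 1, 1, 0, -2, 0, 0, 0, 3, 3, 55,
  0, 15, -10, 27, 0]

theorem gc15795 : GC fam w15795 := GC.lin fam_lt [
    (13266515551442736372924776401813900, v0), (144145846604260675518250187147405849, v1),
    (-99670448688025475528099221858916553, v2), (371626860466495545275099886542229422, v8),
    (427806199406805747712979689481049915, v9), (781634402176369629231078022470983915, v10),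
    (-223474247563174451800442001791804719, v11), (24869862461055130229486601696391410, v12),
    (48480515459949871494391769847081290, v13), (19908966459485328051052108155737560, v14),
    (8785048351157601775885168072568350, v15), (14214052261853498453015820442257642, v16), (3, v17),
    (-66468924275050403652425853446156891, v19), (-80880622244435071067958201125206345, v20),
    (80363752786505758598535839707756226, v23), (-25169841540856374829731125332809690, v25),
    (-197670355851438536329707985088402420, v26), (-252234390298272470303333980819107304, v27),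
    (77671389132669915582899501408556529, v28), (3029601980061729217178200090759189, v30),
    (-220819580827809716240054115703230053, v31), (73376861898472183918525290237336094, v32),
    (4955217308088954983291498429981849, v34), (-3430598362897526575028515204549435, v35),
    (-285165311229293475833395453333117401, v36), (26091555638596308897571352466845909, v37), (2622861, v38),
    (2131261874033421925466250880490886, v39), (-853819411301713971039986314612218, v40),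
    (-108461965426027506374570045572970359, v41), (65136337958640236896752704843761413, v42),
    (-2102924289444779189835440863191058, v44), (1517575661912842391305989766473073, v45),
    (-89366163528594048674184342690576620, v46), (2490124917579625518576586542510232, v47),
    (177366014318859556625339892837871192, v58), (-205126541054682365753003736764873451, v59),
    (321421521454500140753832898645233362, w243243), (-200254666286992093066840237318372967, w197120), (1, u2)]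
    (List.forall_mem_cons.2 ⟨g0, List.forall_mem_cons.2 ⟨g1, List.forall_mem_cons.2 ⟨g2,
    List.forall_mem_cons.2 ⟨g8, List.forall_mem_cons.2 ⟨g9, List.forall_mem_cons.2 ⟨g10,
    List.forall_mem_cons.2 ⟨g11, List.forall_mem_cons.2 ⟨g12, List.forall_mem_cons.2 ⟨g13,
    List.forall_mem_cons.2 ⟨g14, List.forall_mem_cons.2 ⟨g15, List.forall_mem_cons.2 ⟨g16,
    List.forall_mem_cons.2 ⟨g17, List.forall_mem_cons.2 ⟨g19, List.forall_mem_cons.2 ⟨g20,
    List.forall_mem_cons.2 ⟨g23, List.forall_mem_cons.2 ⟨g25, List.forall_mem_cons.2 ⟨g26,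
    List.forall_mem_cons.2 ⟨g27, List.forall_mem_cons.2 ⟨g28, List.forall_mem_cons.2 ⟨g30,
    List.forall_mem_cons.2 ⟨g31, List.forall_mem_cons.2 ⟨g32, List.forall_mem_cons.2 ⟨g34,
    List.forall_mem_cons.2 ⟨g35, List.forall_mem_cons.2 ⟨g36, List.forall_mem_cons.2 ⟨g37,
    List.forall_mem_cons.2 ⟨g38, List.forall_mem_cons.2 ⟨g39, List.forall_mem_cons.2 ⟨g40,
    List.forall_mem_cons.2 ⟨g41, List.forall_mem_cons.2 ⟨g42, List.forall_mem_cons.2 ⟨g44,
    List.forall_mem_cons.2 ⟨g45, List.forall_mem_cons.2 ⟨g46, List.forall_mem_cons.2 ⟨g47,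
    List.forall_mem_cons.2 ⟨g58, List.forall_mem_cons.2 ⟨g59, List.forall_mem_cons.2 ⟨gc243243,
    List.forall_mem_cons.2 ⟨gc197120, List.forall_mem_cons.2 ⟨gu2,
    List.forall_mem_nil _⟩⟩⟩⟩⟩⟩⟩⟩⟩⟩⟩⟩⟩⟩⟩⟩⟩⟩⟩⟩⟩⟩⟩⟩⟩⟩⟩⟩⟩⟩⟩⟩⟩⟩⟩⟩⟩⟩⟩⟩⟩) w15795 (by ((try (rewrite [Cfsg.Agent.LsF.fe98091_0.2, Cfsg.Agent.LsF.fe98091_1.2, Cfsg.Agent.LsF.ineg_pat, Cfsg.Agent.LsF.getD_eq, Cfsg.Agent.LsF.instIDecEq_eq, Cfsg.Agent.LsF.decide_eq])); decide +kernel))

/-- irreducibility from the table -/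
theorem tv_irr {v : List ℤ} (hv : GC fam v) (h0 : 0 < v.getD 1 0)
    (h : ((List.range 37).map fun i => (SZ.getD i 0 : ℤ) * v.getD i 0 ^ 2).sum = (448345497600 : ℕ)) :
    IsIrrCharacter Suz (tv fam v) := by
  have := finite_Suz
  have := Fintype.ofFinite Suz
  refine GC.irrFam fam_lt SZ fam_card hv ?_ ?_
  · rw [h, card_Suz]
  · rw [fam_one]
    exact h0

theorem tv_one (v : List ℤ) : tv fam v 1 = ((v.getD 1 0 : ℤ) : ℂ) := by rw [tv, fam_one]

theorem irr88452 : IsIrrCharacter Suz (tv fam w88452) := tv_irr gc88452 (by decide +kernel) (by decide +kernel)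
theorem irr15795 : IsIrrCharacter Suz (tv fam w15795) := tv_irr gc15795 (by decide +kernel) (by decide +kernel)
end Cfsg.Agent.TID.Suz
end

-- part: TID/Suz/Fam
section
set_option linter.all false
open scoped Cfsg.Agent.FastGrp

/-!
# S4622, row `Suz`: orders, centralizers and the section of the class 3C in terms of the families (helper31)
-/

set_option autoImplicit false
set_option maxRecDepth 100000

namespace Cfsg.Agent.TID.Suz

open Cfsg Cfsg.Spor Cfsg.Agent.H300.Cls Cfsg.Agent.H714.S8.SuzFam Cfsg.Agent.H714.S8.Fam Subgroup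
open Cfsg.Agent.SporadicRecognition.SuzOrder (card_Suz)
open Cfsg.Agent.OddHalf.Table.SuzRep (ψ)
open Cfsg.Agent.H123.Cls Cfsg.Agent.H123.Cls.SuzDat
open Cfsg.Agent.Characters.Core
open scoped ComplexConjugate

theorem fam_ncard (i : ℕ) : Set.ncard {g : Suz | fam g = i} = SZ.getD i 0 := by
  classical
  have := finite_Suz
  have := Fintype.ofFinite Suz
  rw [← fam_card i, ← Set.ncard_coe_finset, Finset.coe_filter]
  simp

theorem fam_eq_one {g : Suz} : fam g = 1 ↔ g = 1 := by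
  refine ⟨fun h => ?_, fun h => by rw [h, fam_one]⟩
  have h1 := fam_ncard 1
  have h2 : SZ.getD 1 0 = 1 := rfl
  rw [h2, Set.ncard_eq_one] at h1
  obtain ⟨a, ha⟩ := h1
  have h3 : g ∈ {g : Suz | fam g = 1} := h
  have h4 : (1 : Suz) ∈ {g : Suz | fam g = 1} := fam_one
  rw [ha, Set.mem_singleton_iff] at h3 h4
  rw [h3, h4]

theorem fam_cj (c g : Suz) : fam (c * g * c⁻¹) = fam g := fam_aut (MulAut.conj c) g

theorem fam_isConj {g h : Suz} (e : IsConj g h) : fam h = fam g := by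
  obtain ⟨c, rfl⟩ := isConj_iff.1 e
  exact fam_cj c g

theorem cls_mul (g : Suz) : Set.ncard {y : Suz | IsConj g y} * Nat.card (centralizer ({g} : Set Suz)) = 448345497600 := by
  have := finite_Suz
  rw [Blocks.Induced.ncard_conj_eq_index, mul_comm, card_mul_index, card_Suz]

theorem cls_aut (α : MulAut Suz) (g : Suz) : Set.ncard {y : Suz | IsConj (α g) y} = Set.ncard {y : Suz | IsConj g y} := by
  have h : {y : Suz | IsConj (α g) y} = α '' {y : Suz | IsConj g y} := by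
    ext y
    constructor
    · intro hy
      refine ⟨α.symm y, ?_, α.apply_symm_apply y⟩
      have h1 := α.symm.toMonoidHom.map_isConj hy
      rwa [MulEquiv.coe_toMonoidHom, α.symm_apply_apply] at h1
    · rintro ⟨z, hz, rfl⟩
      exact α.toMonoidHom.map_isConj hz
  rw [h, Set.ncard_image_of_injective _ α.injective]

/-- a family is the union of at most two classes of the same size -/
theorem cent_mul (g : Suz) : Nat.card (centralizer ({g} : Set Suz)) * SZ.getD (fam g) 0 = 448345497600 ∨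
    Nat.card (centralizer ({g} : Set Suz)) * SZ.getD (fam g) 0 = 2 * 448345497600 := by
  have := finite_Suz
  obtain ⟨τ, hτ⟩ := Cfsg.Agent.H323.SuzOut.exists_τ
  have h1 : {y : Suz | fam y = fam g} = {y : Suz | IsConj g y} ∪ {y : Suz | IsConj (τ g) y} := by
    ext y
    constructor
    · intro hy
      obtain ⟨σ, hσ, -⟩ := fam_gal g y (Eq.symm hy)
      rcases Cfsg.Agent.KFacts.SuzOut.out_two τ σ with ⟨n, hn⟩ | ⟨n, hn⟩ | ⟨n, hn⟩
      · exact absurd hn.symm (Cfsg.Agent.H323.SuzOut.τ_outer hτ n)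
      · left
        rw [← hσ, ← hn]
        exact isConj_iff.2 ⟨n, rfl⟩
      · right
        have h2 : σ = τ * MulAut.conj n := by rw [hn]; group
        rw [← hσ, h2, MulAut.mul_apply]
        exact τ.toMonoidHom.map_isConj (isConj_iff.2 ⟨n, rfl⟩)
    · rintro (hy | hy)
      · exact fam_isConj hy
      · exact (fam_isConj hy).trans (fam_aut τ g)
  have h2 := cls_mul g
  rw [← fam_ncard, h1]
  by_cases hc : IsConj g (τ g)
  · left
    have h3 : {y : Suz | IsConj (τ g) y} = {y : Suz | IsConj g y} := by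
      ext y
      exact ⟨fun h => hc.trans h, fun h => hc.symm.trans h⟩
    rw [h3, Set.union_self, mul_comm, h2]
  · right
    have h3 : Disjoint {y : Suz | IsConj g y} {y : Suz | IsConj (τ g) y} :=
      Set.disjoint_left.2 fun y h3 h4 => hc (IsConj.trans h3 (IsConj.symm h4))
    rw [Set.ncard_union_eq h3, cls_aut, mul_add, mul_comm, h2]

theorem sg_last (g : Suz) : (sg g).getD 6 0 = (sg (g ^ 5)).getD 1 0 := by
  show pwc row (ψ g) (false, 5) = pwc row (ψ (g ^ 5)) (false, 1)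
  rw [map_pow, pwc_pow]
  rfl

theorem last_eq (g : Suz) : (SL.getD (fam g) []).getD 6 0 = (SL.getD (fam (g ^ 5)) []).getD 1 0 := by
  rw [← sg_fam, ← sg_fam, sg_last]

theorem fam_ne_one {g : Suz} {n : ℕ} (hn : 1 < n) (h : orderOf g = n) : fam g ≠ 1 := by
  intro h1
  rw [fam_eq_one.1 h1, orderOf_one] at h
  omega

/-- elements of order three -/
theorem fam_three {g : Suz} (h : orderOf g = 3) : fam g = 4 ∨ fam g = 6 ∨ fam g = 36 := by
  have h1 := fam_cu g
  rw [← h, pow_orderOf_eq_one, fam_one] at h1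
  have h2 : ∀ i < 37, i ≠ 1 → 1 = P3.getD i 0 → i = 4 ∨ i = 6 ∨ i = 36 := by decide +kernel
  exact h2 _ (fam_lt g) (fam_ne_one (by norm_num) h) h1

/-- elements of order five -/
theorem fam_five {g : Suz} (h : orderOf g = 5) : fam g = 14 ∨ fam g = 34 := by
  have h1 := last_eq g
  rw [← h, pow_orderOf_eq_one, fam_one] at h1
  have h2 : ∀ i < 37, i ≠ 1 → (SL.getD i []).getD 6 0 = (SL.getD 1 []).getD 1 0 → i = 14 ∨ i = 34 := by decide +kernel
  exact h2 _ (fam_lt g) (fam_ne_one (by norm_num) h) h1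

theorem fam_two_pow (g : Suz) (k : ℕ) : fam (g ^ 2 ^ k) = (fun i => P2.getD i 0)^[k] (fam g) := by
  induction k with
  | zero => rw [pow_zero, pow_one]; rfl
  | succ k ih => rw [Function.iterate_succ_apply', ← ih, pow_succ, pow_mul, fam_sq]

theorem fam_three_pow (g : Suz) (k : ℕ) : fam (g ^ 3 ^ k) = (fun i => P3.getD i 0)^[k] (fam g) := by
  induction k with
  | zero => rw [pow_zero, pow_one]; rfl
  | succ k ih => rw [Function.iterate_succ_apply', ← ih, pow_succ, pow_mul, fam_cu]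

/-- elements of order 7, 11, 13 -/
theorem fam_big {g : Suz} (h : orderOf g = 7 ∨ orderOf g = 11 ∨ orderOf g = 13) :
    fam g = 9 ∨ fam g = 16 ∨ fam g = 29 := by
  have e2 : g ^ 2 ^ 60 = g := by
    conv_rhs => rw [← pow_one g]
    rw [pow_eq_pow_iff_modEq]
    rcases h with h | h | h <;> rw [h] <;> decide +kernel
  have e3 : g ^ 3 ^ 60 = g := by
    conv_rhs => rw [← pow_one g]
    rw [pow_eq_pow_iff_modEq]
    rcases h with h | h | h <;> rw [h] <;> decide +kernel
  have h1 := fam_two_pow g 60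
  have h2 := fam_three_pow g 60
  rw [e2] at h1
  rw [e3] at h2
  have h3 : fam (g ^ 5) ≠ 1 := by
    intro h4
    have h5 := orderOf_dvd_of_pow_eq_one (fam_eq_one.1 h4)
    rcases h with h | h | h <;> rw [h] at h5 <;> omega
  have h4 := last_eq g
  have h5 : ∀ j < 37, j ≠ 1 → (SL.getD j []).getD 1 0 ≠ 1782 := by decide +kernel
  have h6 := h5 _ (fam_lt _) h3
  rw [← h4] at h6
  have h7 : ∀ i < 37, i = (fun i => P2.getD i 0)^[60] i → i = (fun i => P3.getD i 0)^[60] i →
      (SL.getD i []).getD 6 0 ≠ 1782 → i = 9 ∨ i = 16 ∨ i = 29 := by decide +kernel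
  exact h7 _ (fam_lt g) h1 h2 h6

/-- the class 3C -/
theorem fam_of_card {g : Suz} (h3 : orderOf g = 3) (h : Nat.card (centralizer ({g} : Set Suz)) = 3240) : fam g = 6 := by
  have h1 := cent_mul g
  rw [h] at h1
  rcases fam_three h3 with h2 | h2 | h2
  · rw [h2, show SZ.getD 4 0 = 12812800 from rfl] at h1
    omega
  · exact h2
  · rw [h2, show SZ.getD 36 0 = 45760 from rfl] at h1
    omega

/-! ### Functions supported on the section -/

section

variable {H : Type*} [Group H] [Fintype H] (π : H →* Suz) (Ψ : H → ℂ)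

end

end Cfsg.Agent.TID.Suz
end
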